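import Groth.Agent.L18.ProjAlg.VanishIdeal
import Groth.Agent.L18.AffineAlgExtend
import Groth.Agent.L18.RelProj.Exists

/-!
# Closed subschemes of projective schemes are projective
-/

set_option autoImplicit false

noncomputable section

universe u

open CategoryTheory CategoryTheory.Limits AlgebraicGeometry TopologicalSpace Opposite HomogeneousLocalization
open scoped HomogeneousIdeal

namespace Groth.L18.VanishI

/-- A surjective ring homomorphism with homogeneous kernel pushes the grading forward. -/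
theorem nonempty_gradedRing_map {A B σ : Type u} [CommRing A] [CommRing B] [SetLike σ A] [AddSubgroupClass σ A]
    (𝒜 : ℕ → σ) [GradedRing 𝒜] (π : A →+* B) (hπ : Function.Surjective π)
    (hker : ∀ x, π x = 0 → ∀ d, π (DirectSum.decompose 𝒜 x d : A) = 0) (ℬ : ℕ → AddSubgroup B)
    (hℬ : ∀ d y, y ∈ ℬ d ↔ ∃ x ∈ 𝒜 d, π x = y) : Nonempty (GradedRing ℬ) := by
  classical
  haveI : SetLike.GradedMonoid ℬ :=
    { one_mem := (hℬ 0 1).2 ⟨1, SetLike.one_mem_graded 𝒜, map_one π⟩
      mul_mem := fun i j a b ha hb => by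
        obtain ⟨x, hx, rfl⟩ := (hℬ i a).1 ha
        obtain ⟨y, hy, rfl⟩ := (hℬ j b).1 hb
        exact (hℬ _ _).2 ⟨x * y, SetLike.mul_mem_graded hx hy, map_mul π x y⟩ }
  refine ⟨{ toDecomposition := DirectSum.IsInternal.chooseDecomposition ℬ ⟨?_, fun y => ?_⟩ }⟩
  · rw [injective_iff_map_eq_zero]
    intro w hw
    refine DFinsupp.ext fun d => Subtype.ext ?_
    have hch : ∀ d, ∃ x ∈ 𝒜 d, π x = (w d : B) := fun d => (hℬ d _).1 (w d).2
    choose x hx hxy using hch
    rw [DirectSum.coeAddMonoidHom_eq_dfinsuppSum, DFinsupp.sum] at hw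
    by_cases hd : d ∈ w.support
    · have h0 : π (∑ e ∈ w.support, x e) = 0 := by
        rw [map_sum, Finset.sum_congr rfl fun e _ => hxy e]; exact hw
      have h1 := hker _ h0 d
      rw [DirectSum.decompose_sum, DFinsupp.finsetSum_apply, AddSubmonoidClass.coe_finsetSum,
        Finset.sum_eq_single d (fun e _ he => DirectSum.decompose_of_mem_ne 𝒜 (hx e) he)
          (fun h => absurd hd h), DirectSum.decompose_of_mem_same 𝒜 (hx d), hxy d] at h1
      exact h1
    · rw [DFinsupp.notMem_support_iff.mp hd]; rfl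
  · obtain ⟨x, rfl⟩ := hπ y
    refine ⟨∑ d ∈ (DirectSum.decompose 𝒜 x).support, DirectSum.of (fun d => ℬ d) d
      ⟨π (DirectSum.decompose 𝒜 x d : A), (hℬ d _).2 ⟨_, SetLike.coe_mem _, rfl⟩⟩, ?_⟩
    rw [map_sum]
    simp only [DirectSum.coeAddMonoidHom_of]
    rw [← map_sum, DirectSum.sum_support_decompose]

variable {S P Z : Scheme.{u}} {𝒮 : RelProj.QCGrAlg S} {p : P ⟶ S}
  {chart : ∀ (U : S.Opens) (hU : IsAffineOpen U), (((p ⁻¹ᵁ U : P.Opens) : Scheme.{u}) ≅ Proj (𝒮.deg U hU))}
  (i : Z ⟶ P) [IsAffineHom i] (hP : RelProj.IsRelProj 𝒮 p chart) (hft : 𝒮.IsFTDeg 1)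

/-- The quotient values. -/
def qData : Groth.L18.AlgExt.Data S where
  obj U hU := CommRingCat.of (𝒮.presheaf.obj (op U) ⧸ I chart i U hU)
  res {U V} hU hV h := CommRingCat.ofHom (Ideal.quotientMap (I chart i V hV)
    ((𝒮.presheaf.map (homOfLE h).op).hom) (fun _ hx => res_mem_I i hP hU hV h hx))
  res_id {U} hU := by
    refine CommRingCat.hom_ext (Ideal.Quotient.ringHom_ext (RingHom.ext fun a => ?_))
    show Ideal.Quotient.mk _ ((𝒮.presheaf.map (𝟙 _)).hom a) = _
    rw [CategoryTheory.Functor.map_id]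
    rfl
  res_comp {U V W} hU hV hW h h' := by
    refine CommRingCat.hom_ext (Ideal.Quotient.ringHom_ext (RingHom.ext fun a => ?_))
    show Ideal.Quotient.mk _ ((𝒮.presheaf.map (homOfLE h').op).hom ((𝒮.presheaf.map (homOfLE h).op).hom a)) =
      Ideal.Quotient.mk _ ((𝒮.presheaf.map (homOfLE (h'.trans h)).op).hom a)
    exact congrArg _ (ConcreteCategory.congr_hom (𝒮.presheaf.map_comp (homOfLE h).op (homOfLE h').op) a).symm
  str U hU := CommRingCat.ofHom ((Ideal.Quotient.mk (I chart i U hU)).comp (𝒮.str.app (op U)).hom)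
  str_res {U V} hU hV h := by
    refine CommRingCat.hom_ext (RingHom.ext fun a => ?_)
    show Ideal.Quotient.mk _ ((𝒮.presheaf.map (homOfLE h).op).hom ((𝒮.str.app (op U)).hom a)) =
      Ideal.Quotient.mk _ ((𝒮.str.app (op V)).hom _)
    exact congrArg _ (ConcreteCategory.congr_hom (𝒮.str.naturality (homOfLE h).op) a).symm
  isLoc U hU r := by
    let j := S.basicOpen_le r
    let ρ : 𝒮.presheaf.obj (op U) →+* 𝒮.presheaf.obj (op (S.basicOpen r)) := (𝒮.presheaf.map (homOfLE j).op).hom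
    let c := (𝒮.str.app (op U)).hom r
    let I₀ := I chart i U hU
    let I₁ := I chart i (S.basicOpen r) (hU.basicOpen r)
    letI alg0 : Algebra (𝒮.presheaf.obj (op U)) (𝒮.presheaf.obj (op (S.basicOpen r))) := ρ.toAlgebra
    haveI : IsLocalization.Away c (𝒮.presheaf.obj (op (S.basicOpen r))) := 𝒮.isQC U hU r
    let ψ : 𝒮.presheaf.obj (op U) ⧸ I₀ →+* 𝒮.presheaf.obj (op (S.basicOpen r)) ⧸ I₁ :=
      Ideal.quotientMap I₁ ρ (fun _ hx => res_mem_I i hP hU (hU.basicOpen r) j hx)
    letI := ψ.toAlgebra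
    show IsLocalization.Away (Ideal.Quotient.mk I₀ c) (𝒮.presheaf.obj (op (S.basicOpen r)) ⧸ I₁)
    refine (isLocalization_iff (M := Submonoid.powers (Ideal.Quotient.mk I₀ c))
      (S := 𝒮.presheaf.obj (op (S.basicOpen r)) ⧸ I₁)).mpr ⟨?_, ?_, ?_⟩
    · rintro ⟨_, n, rfl⟩
      show IsUnit (ψ (Ideal.Quotient.mk I₀ c ^ n))
      rw [map_pow]
      refine IsUnit.pow n ?_
      show IsUnit (Ideal.Quotient.mk I₁ (ρ c))
      exact (IsLocalization.Away.algebraMap_isUnit (S := 𝒮.presheaf.obj (op (S.basicOpen r))) c).map _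
    · intro y
      obtain ⟨z, rfl⟩ := Ideal.Quotient.mk_surjective y
      obtain ⟨⟨a, _, n, rfl⟩, he⟩ := IsLocalization.surj (Submonoid.powers c) z
      refine ⟨⟨Ideal.Quotient.mk I₀ a, ⟨_, n, rfl⟩⟩, ?_⟩
      show Ideal.Quotient.mk I₁ z * ψ (Ideal.Quotient.mk I₀ c ^ n) = ψ (Ideal.Quotient.mk I₀ a)
      rw [← map_pow]
      exact ((map_mul (Ideal.Quotient.mk I₁) z (ρ (c ^ n))).symm).trans (congrArg (Ideal.Quotient.mk I₁) he)
    · intro x y hxy
      obtain ⟨a, rfl⟩ := Ideal.Quotient.mk_surjective x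
      obtain ⟨b, rfl⟩ := Ideal.Quotient.mk_surjective y
      have h1 : ρ (a - b) ∈ I₁ := by
        rw [map_sub]
        exact (Ideal.Quotient.eq).1 hxy
      obtain ⟨N, hN⟩ := exists_pow_mem_I i hP hft hU r h1
      refine ⟨⟨_, N, rfl⟩, ?_⟩
      show Ideal.Quotient.mk I₀ c ^ N * Ideal.Quotient.mk I₀ a = Ideal.Quotient.mk I₀ c ^ N * Ideal.Quotient.mk I₀ b
      rw [← map_pow, ← map_mul, ← map_mul, Ideal.Quotient.eq, ← mul_sub]
      exact hN

/-- The quotient algebra. -/
def qAlg : RelSpec.QCAlg S := (qData i hP hft).alg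

/-- The quotient map on an affine open. -/
def qπ (U : S.Opens) (hU : IsAffineOpen U) : 𝒮.presheaf.obj (op U) →+* (qAlg i hP hft).presheaf.obj (op U) :=
  ((qData i hP hft).evEquiv U hU).symm.toRingHom.comp (Ideal.Quotient.mk (I chart i U hU))

theorem qπ_surjective (U : S.Opens) (hU : IsAffineOpen U) : Function.Surjective (qπ i hP hft U hU) := fun y => by
  obtain ⟨a, ha⟩ := Ideal.Quotient.mk_surjective ((qData i hP hft).evEquiv U hU y)
  refine ⟨a, ?_⟩
  show ((qData i hP hft).evEquiv U hU).symm (Ideal.Quotient.mk (I chart i U hU) a) = y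
  rw [RingEquiv.symm_apply_eq]
  exact ha

theorem qπ_eq_zero {U : S.Opens} (hU : IsAffineOpen U) (x : 𝒮.presheaf.obj (op U)) :
    qπ i hP hft U hU x = 0 ↔ x ∈ I chart i U hU := by
  show ((qData i hP hft).evEquiv U hU).symm (Ideal.Quotient.mk (I chart i U hU) x) = 0 ↔ _
  rw [RingEquiv.map_eq_zero_iff]
  exact Ideal.Quotient.eq_zero_iff_mem

theorem qπ_res {U V : S.Opens} (hU : IsAffineOpen U) (hV : IsAffineOpen V) (h : V ≤ U) (x : 𝒮.presheaf.obj (op U)) :
    ((qAlg i hP hft).presheaf.map (homOfLE h).op).hom (qπ i hP hft U hU x) =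
      qπ i hP hft V hV ((𝒮.presheaf.map (homOfLE h).op).hom x) := by
  apply ((qData i hP hft).evEquiv V hV).injective
  refine Eq.trans ?_ (((qData i hP hft).evEquiv V hV).apply_symm_apply _).symm
  refine ((qData i hP hft).ev_res hU hV h _).trans ?_
  refine (congrArg ((qData i hP hft).res hU hV h).hom
    (((qData i hP hft).evEquiv U hU).apply_symm_apply _)).trans ?_
  rfl

theorem qπ_str {U : S.Opens} (hU : IsAffineOpen U) (a : Γ(S, U)) :
    qπ i hP hft U hU ((𝒮.str.app (op U)).hom a) = ((qAlg i hP hft).str.app (op U)).hom a := by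
  apply ((qData i hP hft).evEquiv U hU).injective
  refine (((qData i hP hft).evEquiv U hU).apply_symm_apply _).trans ?_
  exact (ConcreteCategory.congr_hom ((qData i hP hft).str_ev U hU) a).symm

/-- The quotient map on all opens. -/
def qHomPre : 𝒮.presheaf ⟶ (qAlg i hP hft).presheaf :=
  Functor.IsCoverDense.restrictHomEquivHom (G := Scheme.AffineZariskiSite.toOpensFunctor S)
    (K := Opens.grothendieckTopology S) (ℱ := 𝒮.presheaf)
    (ℱ' := (⟨(qAlg i hP hft).presheaf, (qAlg i hP hft).isSheaf⟩ : TopCat.Sheaf CommRingCat.{u} S.carrier))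
    { app := fun U => CommRingCat.ofHom (qπ i hP hft U.unop.1 U.unop.2)
      naturality := fun U V f => CommRingCat.hom_ext (RingHom.ext fun x =>
        (qπ_res i hP hft U.unop.2 V.unop.2 (Scheme.AffineZariskiSite.toOpens_mono f.unop.le) x).symm) }

theorem qHomPre_app (U : S.Opens) (hU : IsAffineOpen U) :
    (qHomPre i hP hft).app (op U) = CommRingCat.ofHom (qπ i hP hft U hU) :=
  NatTrans.congr_app ((Functor.IsCoverDense.restrictHomEquivHom (G := Scheme.AffineZariskiSite.toOpensFunctor S)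
    (K := Opens.grothendieckTopology S) (ℱ := 𝒮.presheaf)
    (ℱ' := (⟨(qAlg i hP hft).presheaf, (qAlg i hP hft).isSheaf⟩ : TopCat.Sheaf CommRingCat.{u} S.carrier))).symm_apply_apply
      { app := fun U => CommRingCat.ofHom (qπ i hP hft U.unop.1 U.unop.2)
        naturality := fun U V f => CommRingCat.hom_ext (RingHom.ext fun x =>
          (qπ_res i hP hft U.unop.2 V.unop.2 (Scheme.AffineZariskiSite.toOpens_mono f.unop.le) x).symm) })
    (op (⟨U, hU⟩ : S.AffineZariskiSite))

/-- The quotient graded algebra. -/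
def qGr : RelProj.QCGrAlg S where
  toQCAlg := qAlg i hP hft
  deg U hU d := AddSubgroup.map (qπ i hP hft U hU).toAddMonoidHom (𝒮.deg U hU d)
  graded U hU := (nonempty_gradedRing_map (𝒮.deg U hU) (qπ i hP hft U hU) (qπ_surjective i hP hft U hU)
    (fun x hx d => (qπ_eq_zero i hP hft hU _).2 (decompose_mem_vanish _ i _ ((qπ_eq_zero i hP hft hU x).1 hx) d)) _
    (fun _ _ => Iff.rfl)).some
  map_mem {U V} hU hV h d y hy := by
    obtain ⟨x, hx, rfl⟩ := hy
    exact ⟨_, 𝒮.map_mem hU hV h hx, (qπ_res i hP hft hU hV h x).symm⟩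
  str_mem U hU a := ⟨_, 𝒮.str_mem U hU a, qπ_str i hP hft hU a⟩

/-- The quotient homomorphism. -/
def qHom : 𝒮.toQCAlg ⟶ (qGr i hP hft).toQCAlg :=
  ⟨qHomPre i hP hft, by
    apply (Functor.IsCoverDense.restrictHomEquivHom (G := Scheme.AffineZariskiSite.toOpensFunctor S)
      (K := Opens.grothendieckTopology S) (ℱ := S.presheaf)
      (ℱ' := (⟨(qAlg i hP hft).presheaf, (qAlg i hP hft).isSheaf⟩ : TopCat.Sheaf CommRingCat.{u} S.carrier))).symm.injective
    ext U : 2
    change 𝒮.str.app (op U.unop.1) ≫ (qHomPre i hP hft).app (op U.unop.1) = (qAlg i hP hft).str.app (op U.unop.1)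
    rw [qHomPre_app i hP hft U.unop.1 U.unop.2]
    exact CommRingCat.hom_ext (RingHom.ext fun a => qπ_str i hP hft U.unop.2 a)⟩

theorem qHom_app {U : S.Opens} (hU : IsAffineOpen U) (x : 𝒮.presheaf.obj (op U)) :
    ((qHom i hP hft).hom.app (op U)).hom x = qπ i hP hft U hU x :=
  ConcreteCategory.congr_hom (qHomPre_app i hP hft U hU) x

theorem qHom_isGraded : RelProj.IsGradedHom (qHom i hP hft) := fun U hU _ x hx =>
  ⟨x, hx, (qHom_app i hP hft hU x).symm⟩

theorem qHom_irr (U : S.Opens) (hU : IsAffineOpen U) :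
    ((qGr i hP hft).deg U hU)₊ ≤ ((𝒮.deg U hU)₊).map (RelProj.gradedHomAt (qHom i hP hft) (qHom_isGraded i hP hft) U hU) := by
  rw [HomogeneousIdeal.irrelevant_le]
  rintro n hn _ ⟨x, hx, rfl⟩
  refine Eq.mp ?_ (Ideal.mem_map_of_mem (RelProj.gradedHomAt (qHom i hP hft) (qHom_isGraded i hP hft) U hU)
    (HomogeneousIdeal.mem_irrelevant_of_mem _ hn hx))
  exact congrArg (· ∈ _) (qHom_app i hP hft hU x)

theorem qGr_isGenDegOne (hgen : 𝒮.IsGenDegOne) : (qGr i hP hft).IsGenDegOne := by
  intro U hU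
  refine top_le_iff.mp fun y _ => ?_
  obtain ⟨x, rfl⟩ := qπ_surjective i hP hft U hU y
  have hx : x ∈ Subring.closure ((𝒮.deg U hU 0 : Set (𝒮.presheaf.obj (op U))) ∪ (𝒮.deg U hU 1 : Set _)) := by
    rw [hgen U hU]; trivial
  have : qπ i hP hft U hU x ∈ (Subring.closure ((𝒮.deg U hU 0 : Set (𝒮.presheaf.obj (op U))) ∪
      (𝒮.deg U hU 1 : Set _))).map (qπ i hP hft U hU) := ⟨x, hx, rfl⟩
  rw [RingHom.map_closure] at this
  refine Subring.closure_mono ?_ this
  rintro _ ⟨a, ha | ha, rfl⟩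
  · exact Or.inl ⟨a, ha, rfl⟩
  · exact Or.inr ⟨a, ha, rfl⟩

theorem qGr_isFTDeg : (qGr i hP hft).IsFTDeg 1 := by
  classical
  intro U hU
  obtain ⟨T, hT, hT'⟩ := hft U hU
  let σ : qAlg i hP hft |>.presheaf.obj (op U) → 𝒮.presheaf.obj (op U) := Function.invFunOn (qπ i hP hft U hU) T
  refine ⟨T.image (qπ i hP hft U hU), fun y hy => ?_, ?_⟩
  · obtain ⟨a, ha, rfl⟩ := Finset.mem_image.mp (Finset.mem_coe.mp hy)
    exact ⟨a, hT ha, rfl⟩
  rintro _ ⟨x, hx, rfl⟩
  obtain ⟨c, rfl⟩ := hT' x hx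
  refine ⟨fun y => ∑ a ∈ T with qπ i hP hft U hU a = y, c a, ?_⟩
  show qπ i hP hft U hU _ = _
  rw [map_sum, ← Finset.sum_fiberwise_of_maps_to (g := qπ i hP hft U hU) (t := T.image (qπ i hP hft U hU))
    (fun a ha => Finset.mem_image_of_mem _ ha)]
  refine Finset.sum_congr rfl fun y _ => ?_
  rw [map_sum, Finset.sum_mul]
  refine Finset.sum_congr rfl fun a ha => ?_
  rw [map_mul, qπ_str i hP hft hU (c a), (Finset.mem_filter.mp ha).2]
  rfl

variable [IsClosedImmersion i]

include hP hft in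
/-- A closed subscheme is the relative `Proj` of the quotient algebra, over the given one. -/
theorem exists_relProj_iso (hgen : 𝒮.IsGenDegOne) :
    ∃ (PB : Scheme.{u}) (pB : PB ⟶ S)
      (chartB : ∀ (U : S.Opens) (hU : IsAffineOpen U),
        ((pB ⁻¹ᵁ U : PB.Opens) : Scheme.{u}) ≅ Proj ((qGr i hP hft).deg U hU))
      (h : PB ⟶ P) (e : _ ≅ PB),
      RelProj.IsRelProj (qGr i hP hft) pB chartB ∧
        RelProj.IsRelProjMap (qHom i hP hft) (qHom_isGraded i hP hft) (qHom_irr i hP hft) chart chartB h ∧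
        h ≫ p = pB ∧ e.hom ≫ h = i := by
  classical
  obtain ⟨PB, pB, chartB, hB⟩ := Groth.L18.RP.exists_isRelProj (qGr i hP hft)
  obtain ⟨⟨h, hh, -⟩, hover⟩ := Groth.L18.RP.existsUnique_map (qHom i hP hft) (qHom_isGraded i hP hft)
    (qHom_irr i hP hft) hP hB
  haveI hcl : IsClosedImmersion h := Groth.L18.RP.map_isClosedImmersion_of_genDegOne (qHom i hP hft)
    (qHom_isGraded i hP hft) (qHom_irr i hP hft) hP hB (qGr_isGenDegOne i hP hft hgen)
    (fun U hU y ⟨x, hx, hxy⟩ => ⟨x, hx, (qHom_app i hP hft hU x).trans hxy⟩) hh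
  have hover' := hover h hh
  -- the frames
  let J := Σ U : S.affineOpens, {t : 𝒮.presheaf.obj (op U.1) // t ∈ 𝒮.deg U.1 U.2 1}
  let es : ∀ k : J, Spec (CommRingCat.of (Away (𝒮.deg k.1.1 k.1.2) k.2.1)) ⟶ P := fun k =>
    chartAt (𝒮.deg k.1.1 k.1.2) (RelProj.emb p chart k.1.1 k.1.2) k.2.2
  have hker : i.ker = h.ker := by
    refine PointKer.ker_eq_of_cover i h (fun k : J => CommRingCat.of (Away (𝒮.deg k.1.1 k.1.2) k.2.1)) es (fun x => ?_)
      fun k => ?_
    · obtain ⟨_, ⟨U, hU, rfl⟩, hxU, -⟩ :=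
        S.isBasis_affineOpens.exists_subset_of_mem_open (Set.mem_univ (p.base x)) isOpen_univ
      obtain ⟨v, rfl⟩ := (Groth.L18.RP.opensRange_emb (chart := chart) U hU).ge hxU
      have htop := Proj.iSup_basicOpen_eq_top (𝒮.deg U hU)
        (fun t : {t : 𝒮.presheaf.obj (op U) // t ∈ 𝒮.deg U hU 1} => t.1)
        (Groth.L18.RPGen.irrelevant_le_span _ (hgen U hU) fun z hz => Ideal.subset_span ⟨⟨z, hz⟩, rfl⟩)
      obtain ⟨t, ht⟩ := Opens.mem_iSup.mp (htop.ge (show v ∈ (⊤ : (Proj (𝒮.deg U hU)).Opens) from trivial))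
      obtain ⟨w, hw⟩ := (Proj.opensRange_awayι (𝒮.deg U hU) t.1 t.2 one_pos).ge ht
      refine ⟨⟨⟨U, hU⟩, t⟩, w, ?_⟩
      show (Proj.awayι (𝒮.deg U hU) t.1 t.2 one_pos ≫ RelProj.emb p chart U hU).base w = _
      rw [Scheme.Hom.comp_apply, hw]
    · obtain ⟨⟨U, hU⟩, t, ht⟩ := k
      let φ := RelProj.gradedHomAt (qHom i hP hft) (qHom_isGraded i hP hft) U hU
      have hsq : IsPullback (RelProj.emb pB chartB U hU) (Proj.map φ (qHom_irr i hP hft U hU)) h
          (RelProj.emb p chart U hU) := by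
        refine (IsOpenImmersion.isPullback (Proj.map φ (qHom_irr i hP hft U hU)) (RelProj.emb pB chartB U hU)
          (RelProj.emb p chart U hU) h ?_ ?_).flip
        · show ((chartB U hU).inv ≫ (pB ⁻¹ᵁ U).ι) ≫ h = _ ≫ RelProj.emb p chart U hU
          rw [Category.assoc, hh U hU, Iso.inv_hom_id_assoc]
          rfl
        · rw [Groth.L18.RP.opensRange_emb, Groth.L18.RP.opensRange_emb, ← Scheme.Hom.comp_preimage, hover']
      have hpb := (Groth.L18.RPLoc.isPullback_awayι φ (qHom_irr i hP hft U hU) one_pos t ht).flip.paste_horiz hsq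
      have hqker : ∀ q, q ∈ PointKer.ker h (chartAt (𝒮.deg U hU) (RelProj.emb p chart U hU) ht) ↔
          Away.map φ t q = 0 := by
        intro q
        refine ⟨fun hq => hq _ (CommRingCat.ofHom (Away.map φ t)) _ hpb.w, fun hq C a g hg => ?_⟩
        obtain ⟨b, hb⟩ : ∃ b, Spec.map b = hpb.lift g (Spec.map a) hg := Spec.map_surjective _
        have h2 : Spec.map b ≫ Spec.map (CommRingCat.ofHom (Away.map φ t)) = Spec.map a := by
          rw [hb]; exact hpb.lift_snd _ _ hg
        have hab := Spec.map_injective ((Spec.map_comp _ b).trans h2)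
        have h3 : b.hom (Away.map φ t q) = a.hom q := ConcreteCategory.congr_hom hab q
        rw [← h3, hq, map_zero]
      refine SetLike.ext fun q => ?_
      refine Iff.trans ?_ (hqker q).symm
      obtain ⟨d, x, hx, rfl⟩ := Away.mk_surjective (𝒮.deg U hU) ht q
      have hxd : x ∈ 𝒮.deg U hU d := by simpa using hx
      have hpow : t ^ (1 : ℕ) = t := pow_one t
      constructor
      · intro hq
        -- exchange with all frames
        obtain ⟨T, hT, hT'⟩ := hft U hU
        have hN : ∀ s : T, ∃ N, frac _ (hT s.2) ht ^ N * frac _ (hT s.2) hxd ∈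
            K (𝒮.deg U hU) i (RelProj.emb p chart U hU) (hT s.2) :=
          fun s => exchange _ i _ ht (hT s.2) hxd hq
        choose N hN using hN
        let M := Finset.univ.sup N
        have hmem : t ^ M * x ∈ 𝒮.deg U hU (M + d) :=
          SetLike.mul_mem_graded (by simpa using SetLike.pow_mem_graded M ht) hxd
        have hI : t ^ M * x ∈ I chart i U hU := by
          refine (mem_I_iff i hU hmem).2 (cond_of_gens _ i _ (S := (T : Set _)) hT (fun z hz => ?_) hmem fun s hs => ?_)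
          · obtain ⟨e, rfl⟩ := hT' z hz
            exact Ideal.sum_mem _ fun s hs => Ideal.mul_mem_left _ _ (Ideal.subset_span hs)
          · have hle : N ⟨s, hs⟩ ≤ M := Finset.le_sup (f := N) (Finset.mem_univ _)
            have htM : t ^ M ∈ 𝒮.deg U hU (M * 1) := by simpa using SetLike.pow_mem_graded M ht
            rw [frac_mul' _ (hT hs) (show M * 1 + d = M + d by omega) htM hxd hmem, frac_pow _ (hT hs) ht M htM,
              ← Nat.sub_add_cancel hle, pow_add, mul_assoc]
            exact Ideal.mul_mem_left _ _ (hN ⟨s, hs⟩)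
        have h0 : φ (t ^ M * x) = 0 :=
          (qHom_app i hP hft hU (t ^ M * x)).trans ((qπ_eq_zero i hP hft hU _).2 hI)
        rw [map_mul, map_pow] at h0
        rw [Away.map_mk]
        apply val_injective
        rw [Away.val_mk, val_zero, ← Localization.mk_zero (1 : Submonoid.powers (φ t)), Localization.mk_eq_mk_iff,
          Localization.r_iff_exists]
        refine ⟨⟨φ t ^ M, M, rfl⟩, ?_⟩
        simp only [OneMemClass.coe_one, one_mul, mul_zero]
        exact h0
      · intro hq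
        have hv := congrArg HomogeneousLocalization.val hq
        rw [Away.map_mk, Away.val_mk, val_zero, ← Localization.mk_zero (1 : Submonoid.powers (φ t)),
          Localization.mk_eq_mk_iff, Localization.r_iff_exists] at hv
        obtain ⟨⟨_, M, rfl⟩, hM⟩ := hv
        simp only [OneMemClass.coe_one, one_mul, mul_zero] at hM
        have hmem : t ^ M * x ∈ 𝒮.deg U hU (M + d) :=
          SetLike.mul_mem_graded (by simpa using SetLike.pow_mem_graded M ht) hxd
        have hI : t ^ M * x ∈ I chart i U hU := by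
          rw [← qπ_eq_zero i hP hft hU, ← qHom_app i hP hft hU]
          show φ (t ^ M * x) = 0
          rw [map_mul, map_pow]
          exact hM
        have := (mem_I_iff i hU hmem).1 hI t ht hmem
        have e : frac (𝒮.deg U hU) ht hmem = Away.mk (𝒮.deg U hU) ht d x hx := by
          apply val_injective
          simp only [frac, Away.val_mk]
          rw [Localization.mk_eq_mk_iff, Localization.r_iff_exists]
          exact ⟨1, by simp only [OneMemClass.coe_one, one_mul, pow_add]; ring⟩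
        rw [e] at this
        exact this
  haveI := IsClosedImmersion.isIso_lift h i hker.symm
  exact ⟨PB, pB, chartB, h, asIso (IsClosedImmersion.lift h i hker.ge), hB, hh, hover',
    IsClosedImmersion.lift_fac _ _ _⟩

include hP hft in
/-- A closed subscheme of a projective scheme is projective. -/
theorem isProjective (hgen : 𝒮.IsGenDegOne) : RelProj.IsProjective (i ≫ p) := by
  obtain ⟨PB, pB, chartB, h, e, hB, -, hover, he⟩ := exists_relProj_iso i hP hft hgen
  exact ⟨qGr i hP hft, PB, pB, chartB, e, qGr_isGenDegOne i hP hft hgen, qGr_isFTDeg i hP hft, hB,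
    by rw [← hover, ← he, Category.assoc]⟩

/-- A closed subscheme of a projective scheme is projective. -/
theorem isProjective_comp_closedImmersion {X Y Z : Scheme.{u}} (g : Z ⟶ X) [IsClosedImmersion g] (f : X ⟶ Y)
    (hf : RelProj.IsProjective f) : RelProj.IsProjective (g ≫ f) := by
  obtain ⟨𝒮, P, p, chart, e, hgen, hft, hP, hef⟩ := hf
  have := isProjective (g ≫ e.hom) hP hft hgen
  rwa [Category.assoc, hef] at this

end Groth.L18.VanishI
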