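import Groth.Agent.L18.AffineAlgExtend
import Groth.Agent.L18.SymGraded
import Groth.Agent.L18.RelProj.Exists
import Groth.Agent.L18.RelProj.ProjHom
import Groth.Prelude.Def_CohB1
import Groth.Prelude.Def_RelProj2
import Mathlib.RingTheory.MvPolynomial.Localization

/-!
# The graded polynomial algebra; projective space is projective
-/

set_option autoImplicit false

noncomputable section

universe u

open CategoryTheory CategoryTheory.Limits AlgebraicGeometry TopologicalSpace Opposite
open scoped HomogeneousIdeal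

namespace Groth.L18.PolyAlg

variable (n : ℕ) (S : Scheme.{u})

/-- Restriction of functions. -/
def ρ {U V : S.Opens} (h : V ≤ U) : Γ(S, U) →+* Γ(S, V) := (S.presheaf.map (homOfLE h).op).hom

/-- The values `Γ(S, U)[x₀, …, xₙ]`. -/
def data : Groth.L18.AlgExt.Data S where
  obj U _ := CommRingCat.of (MvPolynomial (Fin (n + 1)) Γ(S, U))
  res _ _ h := CommRingCat.ofHom (MvPolynomial.map (ρ S h))
  res_id {U} hU := by
    refine CommRingCat.hom_ext (RingHom.ext fun p => ?_)
    show MvPolynomial.map (ρ S (le_refl U)) p = p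
    rw [show ρ S (le_refl U) = RingHom.id _ from RingHom.ext fun a =>
      ConcreteCategory.congr_hom (S.presheaf.map_id (op U)) a]
    exact MvPolynomial.map_id p
  res_comp hU hV hW h h' := by
    refine CommRingCat.hom_ext (RingHom.ext fun p => ?_)
    show MvPolynomial.map (ρ S h') (MvPolynomial.map (ρ S h) p) = MvPolynomial.map (ρ S (h'.trans h)) p
    rw [MvPolynomial.map_map]
    congr 2
    exact RingHom.ext fun a => (ConcreteCategory.congr_hom (S.presheaf.map_comp (homOfLE h).op (homOfLE h').op) a).symm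
  str U _ := CommRingCat.ofHom MvPolynomial.C
  str_res hU hV h := CommRingCat.hom_ext (RingHom.ext fun a => MvPolynomial.map_C _ a)
  isLoc U hU r := by
    letI ia : Algebra Γ(S, U) Γ(S, S.basicOpen r) := (ρ S (S.basicOpen_le r)).toAlgebra
    haveI : IsLocalization.Away r Γ(S, S.basicOpen r) := hU.isLocalization_basicOpen r
    letI : Algebra (MvPolynomial (Fin (n + 1)) Γ(S, U)) (MvPolynomial (Fin (n + 1)) Γ(S, S.basicOpen r)) :=
      MvPolynomial.algebraMvPolynomial
    have h : IsLocalization ((Submonoid.powers r).map (MvPolynomial.C (σ := Fin (n + 1))))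
        (MvPolynomial (Fin (n + 1)) Γ(S, S.basicOpen r)) := MvPolynomial.isLocalization _ _
    rw [Submonoid.map_powers] at h
    exact h

/-- The values on affine opens. -/
def η (U : S.Opens) (hU : IsAffineOpen U) :
    (data n S).alg.presheaf.obj (op U) ≃+* MvPolynomial (Fin (n + 1)) Γ(S, U) :=
  (data n S).evEquiv U hU

theorem η_res {U V : S.Opens} (hU : IsAffineOpen U) (hV : IsAffineOpen V) (h : V ≤ U)
    (a : (data n S).alg.presheaf.obj (op U)) :
    η n S V hV (((data n S).alg.presheaf.map (homOfLE h).op).hom a) = MvPolynomial.map (ρ S h) (η n S U hU a) :=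
  (data n S).ev_res hU hV h a

theorem η_str (U : S.Opens) (hU : IsAffineOpen U) (a : Γ(S, U)) :
    η n S U hU (((data n S).alg.str.app (op U)).hom a) = MvPolynomial.C a :=
  ConcreteCategory.congr_hom ((data n S).str_ev U hU) a

/-- The graded algebra `O_S[x₀, …, xₙ]`. -/
def grAlg : RelProj.QCGrAlg S where
  toQCAlg := (data n S).alg
  deg U hU d := AddSubgroup.comap (η n S U hU).toAddMonoidHom
    (MvPolynomial.homogeneousSubmodule (Fin (n + 1)) Γ(S, U) d).toAddSubgroup
  graded U hU := (Groth.L18.SymSheaf.nonempty_gradedRing_comap (η n S U hU)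
    (CohB1.polyGrading n Γ(S, U)) _ (fun _ _ => Iff.rfl)).some
  map_mem {U V} hU hV i {d x} hx := by
    show η n S V hV _ ∈ MvPolynomial.homogeneousSubmodule (Fin (n + 1)) Γ(S, V) d
    rw [η_res n S hU hV i x]
    exact MvPolynomial.IsHomogeneous.map hx _
  str_mem U hU r := by
    show η n S U hU _ ∈ MvPolynomial.homogeneousSubmodule (Fin (n + 1)) Γ(S, U) 0
    rw [η_str]
    exact MvPolynomial.isHomogeneous_C _ r

theorem mem_deg {U : S.Opens} {hU : IsAffineOpen U} {d : ℕ} {a : (data n S).alg.presheaf.obj (op U)} :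
    a ∈ (grAlg n S).deg U hU d ↔ (η n S U hU a).IsHomogeneous d := Iff.rfl

theorem symm_mem {U : S.Opens} {hU : IsAffineOpen U} {d : ℕ} {p : MvPolynomial (Fin (n + 1)) Γ(S, U)}
    (hp : p.IsHomogeneous d) : (η n S U hU).symm p ∈ (grAlg n S).deg U hU d := by
  refine (mem_deg n S).2 ?_
  rw [RingEquiv.apply_symm_apply]
  exact hp

theorem isGenDegOne : (grAlg n S).IsGenDegOne := by
  intro U hU
  suffices h : ∀ p : MvPolynomial (Fin (n + 1)) Γ(S, U), (η n S U hU).symm p ∈ Subring.closure
      (((grAlg n S).deg U hU 0 : Set ((grAlg n S).presheaf.obj (op U))) ∪ ((grAlg n S).deg U hU 1 : Set _)) by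
    refine eq_top_iff.mpr fun x _ => ?_
    exact (η n S U hU).symm_apply_apply x ▸ h (η n S U hU x)
  intro p
  induction p using MvPolynomial.induction_on with
  | C a => exact Subring.subset_closure (Or.inl (symm_mem n S (MvPolynomial.isHomogeneous_C _ a)))
  | add p q hp hq => rw [map_add]; exact add_mem hp hq
  | mul_X p i hp =>
    rw [map_mul]
    exact mul_mem hp (Subring.subset_closure (Or.inr (symm_mem n S (MvPolynomial.isHomogeneous_X _ i))))

theorem deg_one_eq {U : S.Opens} {p : MvPolynomial (Fin (n + 1)) Γ(S, U)} (hp : p.IsHomogeneous 1) :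
    p = ∑ i, MvPolynomial.C (p.coeff (Finsupp.single i 1)) * MvPolynomial.X i := by
  classical
  ext m
  simp only [MvPolynomial.coeff_sum, MvPolynomial.coeff_C_mul, MvPolynomial.coeff_X', mul_ite, mul_one, mul_zero]
  by_cases h : ∃ i, Finsupp.single i 1 = m
  · obtain ⟨i, rfl⟩ := h
    rw [Finset.sum_eq_single i (fun j _ hji => if_neg fun e => hji (Finsupp.single_left_injective one_ne_zero e))
      (fun hi => absurd (Finset.mem_univ i) hi), if_pos rfl]
  · rw [Finset.sum_eq_zero fun j _ => if_neg fun e => h ⟨j, e⟩]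
    by_contra hm
    exact h (by
      have hd := hp hm
      rw [Finsupp.weight_apply] at hd
      simp only [Pi.one_apply, smul_eq_mul, mul_one] at hd
      obtain ⟨i, hi⟩ := (Finsupp.sum_eq_one_iff m).mp hd
      exact ⟨i, hi.symm⟩)

theorem η_str_mul (U : S.Opens) (hU : IsAffineOpen U) (a : Γ(S, U)) (i : Fin (n + 1)) :
    η n S U hU (((data n S).alg.str.app (op U)).hom a * (η n S U hU).symm (MvPolynomial.X i)) =
      MvPolynomial.C a * MvPolynomial.X i := by
  rw [map_mul, η_str, RingEquiv.apply_symm_apply]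

theorem isFTDeg : (grAlg n S).IsFTDeg 1 := by
  classical
  intro U hU
  let g : Fin (n + 1) → (data n S).alg.presheaf.obj (op U) := fun i => (η n S U hU).symm (MvPolynomial.X i)
  let T : Finset ((data n S).alg.presheaf.obj (op U)) := Finset.univ.image g
  refine ⟨T, fun x hx => ?_, fun x hx => ?_⟩
  · obtain ⟨i, -, rfl⟩ := Finset.mem_image.mp (Finset.mem_coe.mp hx)
    exact symm_mem n S (MvPolynomial.isHomogeneous_X _ i)
  let a : Fin (n + 1) → Γ(S, U) := fun i => (η n S U hU x).coeff (Finsupp.single i 1)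
  refine ⟨fun t => ∑ i with g i = t, a i, (η n S U hU).injective ?_⟩
  show η n S U hU x = η n S U hU (∑ t ∈ T, ((data n S).alg.str.app (op U)).hom (∑ i with g i = t, a i) * t)
  rw [Finset.sum_congr rfl fun t _ => show ((data n S).alg.str.app (op U)).hom (∑ i with g i = t, a i) * t =
      ∑ i with g i = t, ((data n S).alg.str.app (op U)).hom (a i) * g i by
    rw [map_sum, Finset.sum_mul]
    exact Finset.sum_congr rfl fun i hi => by rw [(Finset.mem_filter.mp hi).2]]
  rw [Finset.sum_fiberwise_of_maps_to fun i _ => Finset.mem_image_of_mem g (Finset.mem_univ i)]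
  refine (deg_one_eq n S ((mem_deg n S).1 hx)).trans ?_
  refine Eq.trans ?_ (map_sum (η n S U hU) (fun i => ((data n S).alg.str.app (op U)).hom (a i) * g i) Finset.univ).symm
  exact Finset.sum_congr rfl fun i _ => (η_str_mul n S U hU (a i) i).symm

/-- Projective space over a ring is projective. -/
theorem isProjective_toSpec (R : Type u) [CommRing R] : RelProj.IsProjective (CohB1.ProjSpace.toSpec n R) := by
  let B : Scheme.{u} := Spec (CommRingCat.of R)
  have hT : IsAffineOpen (⊤ : B.Opens) := isAffineOpen_top B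
  obtain ⟨P, p, chart, hP⟩ := Groth.L18.RP.exists_isRelProj (grAlg n B)
  let e : Γ(B, ⊤) ≃+* R := (Scheme.ΓSpecIso (CommRingCat.of R)).commRingCatIsoToRingEquiv
  let Φ : (grAlg n B).deg ⊤ hT →+*ᵍ CohB1.polyGrading n R :=
    { ((MvPolynomial.mapEquiv (Fin (n + 1)) e).toRingHom.comp (η n B ⊤ hT).toRingHom) with
      map_mem := fun {d x} hx => by
        show MvPolynomial.map (e : Γ(B, ⊤) →+* R) (η n B ⊤ hT x) ∈ MvPolynomial.homogeneousSubmodule _ R d
        exact MvPolynomial.IsHomogeneous.map hx _ }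
  have hbij : ∀ d, Set.BijOn Φ ((grAlg n B).deg ⊤ hT d) (CohB1.polyGrading n R d) := by
    intro d
    refine ⟨fun x hx => Φ.2 hx, fun x _ y _ h => ?_, fun q hq => ?_⟩
    · exact (η n B ⊤ hT).injective ((MvPolynomial.mapEquiv (Fin (n + 1)) e).injective h)
    · refine ⟨(η n B ⊤ hT).symm (MvPolynomial.map (e.symm : R →+* Γ(B, ⊤)) q),
        symm_mem n B (MvPolynomial.IsHomogeneous.map hq _), ?_⟩
      show MvPolynomial.map (e : Γ(B, ⊤) →+* R) (η n B ⊤ hT ((η n B ⊤ hT).symm _)) = q
      rw [RingEquiv.apply_symm_apply, MvPolynomial.map_map]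
      convert MvPolynomial.map_id q
      exact RingHom.ext e.apply_symm_apply
  have hirr : (CohB1.polyGrading n R)₊ ≤ ((grAlg n B).deg ⊤ hT)₊.map Φ := by
    rw [HomogeneousIdeal.irrelevant_le]
    intro d hd q hq
    obtain ⟨x, hx, rfl⟩ := (hbij d).surjOn hq
    exact Ideal.mem_map_of_mem _ (HomogeneousIdeal.mem_irrelevant_of_mem _ hd hx)
  let m : CohB1.ProjSpace n R ⟶ Proj ((grAlg n B).deg ⊤ hT) := Proj.map Φ hirr
  haveI : IsIso m := Groth.L18.RPLoc.map_isIso_of_bijOn Φ hirr fun d _ => hbij d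
  haveI : IsIso (RelProj.emb p chart ⊤ hT) := by
    rw [RelProj.emb]
    haveI : IsIso (p ⁻¹ᵁ (⊤ : B.Opens)).ι := (Scheme.topIso P).isIso_hom
    infer_instance
  let E : CohB1.ProjSpace n R ≅ P := asIso m ≪≫ asIso (RelProj.emb p chart ⊤ hT)
  refine ⟨grAlg n B, P, p, chart, E, isGenDegOne n B, isFTDeg n B, hP, ?_⟩
  show (Proj.map Φ hirr ≫ RelProj.emb p chart ⊤ hT) ≫ p = CohB1.ProjSpace.toSpec n R
  have h1 : RelProj.emb p chart ⊤ hT ≫ p =
      Proj.toSpecZero ((grAlg n B).deg ⊤ hT) ≫ Spec.map ((grAlg n B).strZero ⊤ hT) ≫ hT.fromSpec := by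
    rw [RelProj.emb, Category.assoc, Iso.inv_comp_eq]
    exact (hP.chart_over ⊤ hT).symm
  rw [Category.assoc, h1]
  have h2 := Groth.L18.RPLoc.map_toSpecZero Φ hirr ((grAlg n B).strZero ⊤ hT)
    (CommRingCat.ofHom (algebraMap R (CohB1.polyGrading n R 0))) (Scheme.ΓSpecIso (CommRingCat.of R)).hom (fun r => by
      show MvPolynomial.map (e : Γ(B, ⊤) →+* R) (η n B ⊤ hT (((data n B).alg.str.app (op ⊤)).hom r)) = _
      rw [η_str, MvPolynomial.map_C]
      rfl)
  have h3 : Spec.map (Scheme.ΓSpecIso (CommRingCat.of R)).hom ≫ hT.fromSpec = 𝟙 B := by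
    rw [IsAffineOpen.fromSpec_top]
    simp [B, Scheme.isoSpec_Spec_inv, Scheme.isoSpec_Spec_hom]
  rw [← Category.assoc (Proj.toSpecZero _), ← Category.assoc (Proj.map Φ hirr), h2, Category.assoc, h3,
    Category.comp_id]
  rfl

end Groth.L18.PolyAlg
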