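import Groth.Agent.L18.ProjAlg.BaseChange
import Groth.Agent.L18.ProjAlg.ClosedSubscheme
import Groth.Agent.L18.ProjAlg.PolyAlg
import Groth.Prelude.Def_MoreMor
import Mathlib.AlgebraicGeometry.Morphisms.Separated

/-!
# Permanence properties of projective morphisms
-/

set_option autoImplicit false

noncomputable section

universe u

open CategoryTheory CategoryTheory.Limits AlgebraicGeometry

namespace Groth.L18.ProjPerm

theorem isProjective_of_comp_of_isSeparated {X Y Z : Scheme.{u}} (f : X ⟶ Y) (g : Y ⟶ Z) [IsSeparated g]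
    (h : RelProj.IsProjective (f ≫ g)) : RelProj.IsProjective f := by
  let γ : X ⟶ pullback (f ≫ g) g := pullback.lift (𝟙 X) f (by simp)
  haveI : IsSeparated (pullback.fst (f ≫ g) g) := MorphismProperty.pullback_fst _ _ inferInstance
  haveI : IsClosedImmersion (γ ≫ pullback.fst (f ≫ g) g) := by
    rw [pullback.lift_fst]; infer_instance
  haveI : IsClosedImmersion γ := IsClosedImmersion.of_comp γ (pullback.fst (f ≫ g) g)
  have := VanishI.isProjective_comp_closedImmersion γ (pullback.snd (f ≫ g) g)
    (PullGrade.isProjective_baseChange (f ≫ g) h g)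
  rwa [pullback.lift_snd] at this

theorem isProjective_of_square {X Y X₀ Y₀ : Scheme.{u}} (f : X ⟶ Y) (hf : RelProj.IsProjective f)
    (j : X₀ ⟶ X) [IsClosedImmersion j] (k : Y₀ ⟶ Y) [IsSeparated k]
    (f₀ : X₀ ⟶ Y₀) (hcomm : j ≫ f = f₀ ≫ k) : RelProj.IsProjective f₀ := by
  let γ : X₀ ⟶ pullback f k := pullback.lift j f₀ hcomm
  haveI : IsSeparated (pullback.fst f k) := MorphismProperty.pullback_fst _ _ inferInstance
  haveI : IsClosedImmersion (γ ≫ pullback.fst f k) := by
    rw [pullback.lift_fst]; infer_instance
  haveI : IsClosedImmersion γ := IsClosedImmersion.of_comp γ (pullback.fst f k)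
  have := VanishI.isProjective_comp_closedImmersion γ (pullback.snd f k) (PullGrade.isProjective_baseChange f hf k)
  rwa [pullback.lift_snd] at this

theorem isProjective_toBase (n : ℕ) (S : Scheme.{u}) : RelProj.IsProjective (CohB1.ProjSpaceOver.toBase n S) :=
  PullGrade.isProjective_baseChange _ (PolyAlg.isProjective_toSpec n _) _

theorem isProjective_of_isHProjective {X S : Scheme.{u}} (f : X ⟶ S) (hf : RelProj.IsHProjective f) :
    RelProj.IsProjective f := by
  obtain ⟨n, i, hi, rfl⟩ := hf
  exact VanishI.isProjective_comp_closedImmersion i _ (isProjective_toBase n S)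

end Groth.L18.ProjPerm
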