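import Groth.Agent.L18.GrMod.TwistFrame
import Groth.Agent.L18.RelTilde.Apps
import Groth.Agent.L18.RelTilde.GlobalFrame
import Groth.Agent.L18.RelAmpleOps
import Groth.Agent.L18.RelProj.GenDegOne
import Groth.Agent.L18.RelTilde.Restrict

/-!
# `O(1)` is relatively ample on a projective scheme
-/

set_option autoImplicit false

noncomputable section

universe u

open CategoryTheory CategoryTheory.Limits AlgebraicGeometry TopologicalSpace Opposite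
open Groth.L18.Frame (rs rs_rs rs_self IsFrame)
open Groth.L18.Ample (isAmple_of_iso isAmple_pullback_congr)

namespace Groth.L18.TwistAmp

variable {A σ : Type u} [CommRing A] [SetLike σ A] [AddSubgroupClass σ A] (𝒜 : ℕ → σ) [GradedRing 𝒜]

/-- `1` in degree zero. -/
def one0 : 𝒜 0 := ⟨1, SetLike.GradedOne.one_mem⟩

theorem one0_notMem {W : Opens (ProjectiveSpectrum.top 𝒜)} (x : W) : (one0 𝒜 : A) ∉ x.1.asHomogeneousIdeal :=
  fun h => x.1.isPrime.ne_top ((Ideal.eq_top_iff_one _).mpr h)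

/-- The section `t / 1` of `O(1)`. -/
def gsec (t : 𝒜 1) : Γ(GrTwist.twist 𝒜 1, ⊤) :=
  GrM.genT t (one0 𝒜) (n := (1 : ℤ)) (by simp) ⊤ (one0_notMem 𝒜)

/-- The morphism `O ⟶ O(1)` given by `t`. -/
def gmap (t : 𝒜 1) : Coh.structureModule (Proj 𝒜) ⟶ GrTwist.twist 𝒜 1 :=
  Groth.L16.homOfSection _ (gsec 𝒜 t)

theorem rs_gsec (t : 𝒜 1) (W : (Proj 𝒜).Opens) :
    rs (GrTwist.twist 𝒜 1) le_top (gsec 𝒜 t) =
      GrM.genT t (one0 𝒜) (n := (1 : ℤ)) (by simp) W (one0_notMem 𝒜) := rfl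

theorem isFrame_gsec (t : 𝒜 1) (W : (Proj 𝒜).Opens) (hW : W ≤ Proj.basicOpen 𝒜 t.1) :
    IsFrame (GrTwist.twist 𝒜 1) W (rs (GrTwist.twist 𝒜 1) le_top (gsec 𝒜 t)) := by
  rw [rs_gsec 𝒜 t W]
  exact GrM.isFrame_genT t (one0 𝒜) _ W (fun x => (Proj.mem_basicOpen _ _ _).1 (hW x.2)) (one0_notMem 𝒜)

theorem genLocus_gmap (hcov : ∀ x : Proj 𝒜, ∃ g : 𝒜 1, x ∈ Proj.basicOpen 𝒜 g.1) (t : 𝒜 1) :
    CohB1.genLocus _ (gmap 𝒜 t) = Proj.basicOpen 𝒜 t.1 := by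
  have hsec : GenLoc.secOf (gmap 𝒜 t) = gsec 𝒜 t := GenLoc.secOf_homOfSection _
  refine le_antisymm (fun x hx => ?_) (GenLoc.le_genLocus _ (by rw [hsec]; exact isFrame_gsec 𝒜 t _ le_rfl))
  obtain ⟨g, hg⟩ := hcov x
  let W : (Proj 𝒜).Opens := CohB1.genLocus _ (gmap 𝒜 t) ⊓ Proj.basicOpen 𝒜 g.1
  have hxW : x ∈ W := ⟨hx, hg⟩
  have hsW : IsFrame (GrTwist.twist 𝒜 1) W (rs (GrTwist.twist 𝒜 1) le_top (gsec 𝒜 t)) := by
    have := (GenLoc.isFrame_genLocus (gmap 𝒜 t)).mono (inf_le_left : W ≤ _)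
    rwa [rs_rs, hsec] at this
  obtain ⟨c, hc⟩ := hsW.exists_coeff le_rfl (rs (GrTwist.twist 𝒜 1) le_top (gsec 𝒜 g))
  rw [rs_self] at hc
  let c' : GrTwist.O (𝒜 := 𝒜) (op W) := c
  have h1 : (c'.1 ⟨x, hxW⟩).val * (Localization.mk t.1 1 : GrTwist.Loc 𝒜 x) = Localization.mk g.1 1 := by
    have h := congrArg (fun s : GrTwist.sectN (𝒜 := 𝒜) (1 : ℤ) (op W) =>
      ((s.1 ⟨x, hxW⟩ : GrTwist.twistAt 𝒜 1 x) : GrTwist.Loc 𝒜 x)) hc
    exact Eq.trans (GrTwist.coe_smul_val (1 : ℤ) x (c'.1 ⟨x, hxW⟩)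
      ((GrM.genT t (one0 𝒜) (n := (1 : ℤ)) (by simp) W (one0_notMem 𝒜)).1 ⟨x, hxW⟩)).symm h
  obtain ⟨num, hnum⟩ := HomogeneousLocalization.mk_surjective (c'.1 ⟨x, hxW⟩)
  rw [← hnum, HomogeneousLocalization.val_mk, Localization.mk_mul, Localization.mk_eq_mk_iff,
    Localization.r_iff_exists] at h1
  obtain ⟨w, hw⟩ := h1
  refine (Proj.mem_basicOpen _ _ _).2 fun htx => ?_
  simp only [OneMemClass.coe_one, mul_one, one_mul] at hw
  have hmem : w.1 * (num.den.1 * g.1) ∈ (x : ProjectiveSpectrum 𝒜).asHomogeneousIdeal.toIdeal := by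
    rw [← hw]
    exact Ideal.mul_mem_left _ _ (Ideal.mul_mem_left _ _ htx)
  exact ((x : ProjectiveSpectrum 𝒜).isPrime.mem_or_mem hmem).elim w.2 fun h' =>
    ((x : ProjectiveSpectrum 𝒜).isPrime.mem_or_mem h').elim num.den_mem ((Proj.mem_basicOpen _ _ _).1 hg)

/-- `O(1)` is ample on `Proj` of a graded ring with finitely many degree-one elements generating `𝒜₊`. -/
theorem isAmple_twist_one (T : Finset A) (hT : ∀ t ∈ T, t ∈ 𝒜 1)
    (hs : (HomogeneousIdeal.irrelevant 𝒜).toIdeal ≤ Ideal.span (T : Set A)) :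
    CohB1.IsAmple (GrTwist.twist 𝒜 1) := by
  have htop := Proj.iSup_basicOpen_eq_top 𝒜 (fun t : T => t.1) (hs.trans (le_of_eq (by simp)))
  have hmem : ∀ x : Proj 𝒜, ∃ t : T, x ∈ Proj.basicOpen 𝒜 t.1 := fun x =>
    Opens.mem_iSup.1 (htop.ge (Opens.mem_top x))
  have hcov : ∀ x : Proj 𝒜, ∃ g : 𝒜 1, x ∈ Proj.basicOpen 𝒜 g.1 := fun x =>
    (hmem x).elim fun t ht => ⟨⟨t.1, hT t.1 t.2⟩, ht⟩
  have haff : ∀ t : T, IsAffineOpen (Proj.basicOpen 𝒜 t.1) := fun t =>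
    Proj.isAffineOpen_basicOpen 𝒜 _ (hT t.1 t.2) one_pos
  refine ⟨GenLoc.isInvertible_of_frames fun x => ?_, ⟨?_⟩, fun x => ?_⟩
  · obtain ⟨t, ht⟩ := hmem x
    exact ⟨_, _, ht, isFrame_gsec 𝒜 ⟨t.1, hT t.1 t.2⟩ _ le_rfl⟩
  · rw [show (Set.univ : Set (Proj 𝒜)) = ⋃ t : T, (Proj.basicOpen 𝒜 t.1 : Set (Proj 𝒜)) by
      ext x; simpa using hmem x]
    exact isCompact_iUnion fun t => (haff t).isCompact
  · obtain ⟨t, ht⟩ := hmem x
    refine ⟨0, gmap 𝒜 ⟨t.1, hT t.1 t.2⟩ ≫ (Groth.L00.Tensor.tensorUnitLeft (GrTwist.twist 𝒜 1)).inv, ?_⟩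
    have e : CohB1.genLocus (CohB1.tensorPow (GrTwist.twist 𝒜 1) (0 + 1))
        (gmap 𝒜 ⟨t.1, hT t.1 t.2⟩ ≫ (Groth.L00.Tensor.tensorUnitLeft (GrTwist.twist 𝒜 1)).inv) = Proj.basicOpen 𝒜 t.1 :=
      (Groth.L16.genLocus_comp_iso _ (Groth.L00.Tensor.tensorUnitLeft (GrTwist.twist 𝒜 1)).symm).trans
        (genLocus_gmap 𝒜 hcov _)
    rw [e]
    exact ⟨ht, haff t⟩

section Rel

variable {S P : Scheme.{u}} {𝒮 : RelProj.QCGrAlg S} {p : P ⟶ S}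
  {chart : ∀ (U : S.Opens) (hU : IsAffineOpen U), (((p ⁻¹ᵁ U : P.Opens) : Scheme.{u}) ≅ Proj (𝒮.deg U hU))}
  {L : P.Modules} {lam : ∀ (U : S.Opens) (hU : IsAffineOpen U),
    L ⟶ (Scheme.Modules.pushforward (RelProj.emb p chart U hU)).obj (GrTwist.twist (𝒮.deg U hU) ((1 : ℕ) : ℤ))}

/-- `O(1)` is relatively ample. -/
theorem isRelAmple (hP : RelProj.IsRelProj 𝒮 p chart) (hgen : 𝒮.IsGenDegOne) (hft : 𝒮.IsFTDeg 1)
    (hL : RelProj.IsRelTwist 𝒮 p chart ((1 : ℕ) : ℤ) L lam) : RelAmple.IsRelAmple p L := by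
  haveI : QuasiCompact p := (RP.finiteType_of_genDegOne hP hgen hft).2
  refine ⟨inferInstance, fun V => ?_⟩
  obtain ⟨U, hU⟩ := V
  obtain ⟨T, hT, hT'⟩ := hft U hU
  have hamp : CohB1.IsAmple (GrTwist.twist (𝒮.deg U hU) 1) := isAmple_twist_one _ T hT
    (Groth.L18.RPGen.irrelevant_le_span _ (hgen U hU) fun x hx => by
      obtain ⟨c, rfl⟩ := hT' x hx
      exact Ideal.sum_mem _ fun t ht => Ideal.mul_mem_left _ _ (Ideal.subset_span ht))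
  have e : (Scheme.Modules.pullback (RelProj.emb p chart U hU)).obj L ≅ GrTwist.twist (𝒮.deg U hU) 1 :=
    ((Scheme.Modules.restrictFunctorIsoPullback _).app L).symm ≪≫
      RelTilde.Data.resIso (RelTilde.isRel_of_isRelTwist hL) U hU
  have h1 : CohB1.IsAmple ((Scheme.Modules.pullback (RelProj.emb p chart U hU)).obj L) :=
    isAmple_of_iso e.symm hamp
  have h2 := (isAmple_pullback_congr (chart U hU) (RelProj.emb p chart U hU) (p ⁻¹ᵁ U).ι (by simp [RelProj.emb])).2 h1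
  exact isAmple_of_iso ((Scheme.Modules.restrictFunctorIsoPullback _).app L).symm h2

end Rel

end Groth.L18.TwistAmp

namespace Groth.L18.TwistAmp

/-- Projective morphisms are quasi-projective. -/
theorem isQuasiProjective_of_isProjective {X Y : Scheme.{u}} {f : X ⟶ Y} (hf : RelProj.IsProjective f) :
    RelProj.IsQuasiProjective f := by
  obtain ⟨𝒮, P, p, chart, e, hgen, hft, hP, rfl⟩ := hf
  obtain ⟨hlft, hqc⟩ := RP.finiteType_of_genDegOne hP hgen hft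
  haveI := hqc
  haveI := hlft
  have hL : RelProj.IsRelTwist 𝒮 p chart ((1 : ℕ) : ℤ) _ _ :=
    RelTilde.isRelTwist_of_isRel ((RelTilde.selfData 𝒮).isRel_glued p chart ((1 : ℕ) : ℤ) hP)
  refine ⟨inferInstance, inferInstance, _,
    Groth.L18.Ample.isRelAmple_pullback_quasiAffine p e.hom ?_ (isRelAmple hP hgen hft hL)⟩
  refine ⟨inferInstance, fun V hV => ?_⟩
  haveI : IsAffine (e.hom ⁻¹ᵁ V : Scheme.{u}) := hV.preimage e.hom
  infer_instance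

end Groth.L18.TwistAmp
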