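import Groth.Agent.L18.ProjAlg.PullGrade
import Groth.Agent.L18.RelSpecAlg
import Groth.Agent.L18.RelProj.Exists
import Groth.Agent.L18.QMap.Props
import Mathlib.AlgebraicGeometry.Morphisms.Flat
import Mathlib.AlgebraicGeometry.Pullbacks

/-!
# Base change of projective morphisms
-/

set_option autoImplicit false

noncomputable section

universe u

open CategoryTheory CategoryTheory.Limits AlgebraicGeometry TopologicalSpace Opposite

namespace Groth.L18.PullGrade

variable {Y Y' : Scheme.{u}} (g : Y' ⟶ Y) (A : RelSpec.QCAlg Y)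

/-- The inverse-image algebra. -/
def pbAlg : RelSpec.QCAlg Y' := RelSpec.QCAlg.directImage (pullback.snd A.π g)

theorem fst_le (U : Y.Opens) :
    pullback.snd A.π g ⁻¹ᵁ (g ⁻¹ᵁ U) ≤ pullback.fst A.π g ⁻¹ᵁ (A.π ⁻¹ᵁ U) := by
  rw [← Scheme.Hom.comp_preimage, ← Scheme.Hom.comp_preimage, pullback.condition]

theorem str_inv (U : Y.Opens) : A.str.app (op U) ≫ (Groth.L18.RelSpecAlg.gammaIso A).inv.app (op U) = A.π.app U := by
  have h : A.str ≫ (Groth.L18.RelSpecAlg.gammaIso A).inv = A.π.c := by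
    rw [Iso.comp_inv_eq]; exact A.π_c_gammaMap.symm
  exact NatTrans.congr_app h (op U)

theorem π_app_fst (U : Y.Opens) :
    A.π.app U ≫ (pullback.fst A.π g).appLE (A.π ⁻¹ᵁ U) (pullback.snd A.π g ⁻¹ᵁ (g ⁻¹ᵁ U)) (fst_le g A U) =
      g.app U ≫ (pullback.snd A.π g).app (g ⁻¹ᵁ U) := by
  rw [Scheme.Hom.app_eq_appLE, Scheme.Hom.app_eq_appLE, Scheme.Hom.app_eq_appLE, Scheme.Hom.appLE_comp_appLE,
    Scheme.Hom.appLE_comp_appLE]
  simp only [pullback.condition]

/-- The canonical map to the inverse-image algebra. -/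
def pbHom : RelSpec.QHom g A (pbAlg g A) where
  app U := (Groth.L18.RelSpecAlg.gammaIso A).inv.app (op U) ≫
    (pullback.fst A.π g).appLE (A.π ⁻¹ᵁ U) (pullback.snd A.π g ⁻¹ᵁ (g ⁻¹ᵁ U)) (fst_le g A U)
  naturality {U V} i := by
    rw [← Category.assoc (A.presheaf.map _), (Groth.L18.RelSpecAlg.gammaIso A).inv.naturality, Category.assoc,
      Category.assoc]
    congr 1
    show (pullback.fst A.π g).appLE _ _ _ ≫ (pullback A.π g).presheaf.map _ =
      A.spec.presheaf.map _ ≫ (pullback.fst A.π g).appLE _ _ _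
    rw [Scheme.Hom.appLE_map, Scheme.Hom.map_appLE]
  str_app U := by
    rw [← Category.assoc]
    exact (congrArg (· ≫ _) (str_inv A U)).trans (π_app_fst g A U)

theorem isQBaseChange_pbHom : RelSpec.IsQBaseChange (pbHom g A) := by
  intro U hU U' hU' hle
  have hUY : pullback.snd A.π g ⁻¹ᵁ U' = pullback.fst A.π g ⁻¹ᵁ (A.π ⁻¹ᵁ U) ⊓ pullback.snd A.π g ⁻¹ᵁ U' := by
    rw [← Scheme.Hom.comp_preimage (pullback.fst A.π g), pullback.condition, Scheme.Hom.comp_preimage]
    exact (inf_eq_right.mpr ((pullback.snd A.π g).preimage_mono hle)).symm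
  have h := (isIso_pushoutSection_iff (IsPullback.of_hasPullback A.π g) hle (le_refl (A.π ⁻¹ᵁ U)) hUY).1
    (isIso_pushoutSection_of_isAffineOpen (IsPullback.of_hasPullback A.π g) hle (le_refl (A.π ⁻¹ᵁ U)) hUY hU hU'
      (hU.preimage A.π))
  refine h.flip.of_iso (Iso.refl _) (Iso.refl _) ((Groth.L18.RelSpecAlg.gammaIso A).app (op U)) (Iso.refl _) ?_ ?_ ?_ ?_
  · exact (Category.comp_id _).trans (Category.id_comp _).symm
  · refine (?_ : _ = A.str.app (op U)).trans (Category.id_comp _).symm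
    refine (cancel_mono ((Groth.L18.RelSpecAlg.gammaIso A).inv.app (op U))).1 ?_
    refine (Category.assoc _ _ _).trans ?_
    rw [Iso.app_hom, Iso.hom_inv_id_app]
    exact (Category.comp_id _).trans ((Scheme.Hom.app_eq_appLE A.π).symm.trans (str_inv A U).symm)
  · refine (Category.comp_id _).trans (Eq.trans ?_ (Category.id_comp _).symm)
    exact (Scheme.Hom.app_eq_appLE (pullback.snd A.π g)).symm
  · refine (Category.comp_id _).trans ?_
    rw [RelSpec.QHom.appLE_eq]
    refine Eq.trans ?_ (congrArg (_ ≫ ·) (Category.assoc _ _ _)).symm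
    refine Eq.trans ?_ (Iso.hom_inv_id_app_assoc (Groth.L18.RelSpecAlg.gammaIso A) (op U) _).symm
    exact (Scheme.Hom.appLE_map (pullback.fst A.π g) _ _).symm

variable {g} {𝒮 : RelProj.QCGrAlg Y} {B : RelSpec.QCAlg Y'} (u' : RelSpec.QHom g 𝒮.toQCAlg B)
  (hu : RelSpec.IsQBaseChange u')

/-- A finite cover by basic opens inside preimages of affine opens. -/
theorem exists_basic_cover {V : Y'.Opens} (hV : IsAffineOpen V) : ∃ R : Finset Γ(Y', V),
    Ideal.span (R : Set Γ(Y', V)) = ⊤ ∧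
      ∀ r ∈ R, ∃ (U : Y.Opens) (_ : IsAffineOpen U), Y'.basicOpen r ≤ g ⁻¹ᵁ U := by
  classical
  let S : Set Γ(Y', V) := {r | ∃ (U : Y.Opens) (_ : IsAffineOpen U), Y'.basicOpen r ≤ g ⁻¹ᵁ U}
  have hS : Ideal.span S = ⊤ := by
    rw [← hV.iSup_basicOpen_eq_self_iff]
    refine le_antisymm (iSup_le fun r => Y'.basicOpen_le _) fun y hy => ?_
    obtain ⟨_, ⟨U, hU, rfl⟩, hzU, -⟩ := Y.isBasis_affineOpens.exists_subset_of_mem_open
      (Set.mem_univ (g.base y)) isOpen_univ
    obtain ⟨r, hr, hyr⟩ := hV.exists_basicOpen_le (V := g ⁻¹ᵁ U) ⟨y, hzU⟩ hy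
    exact Opens.mem_iSup.mpr ⟨⟨r, U, hU, hr⟩, hyr⟩
  obtain ⟨R, hR, hR1⟩ := Submodule.mem_span_finite_of_mem_span
    (show (1 : Γ(Y', V)) ∈ Ideal.span S by rw [hS]; trivial)
  exact ⟨R, Ideal.eq_top_of_isUnit_mem _ hR1 isUnit_one, fun r hr => hR hr⟩

include hu in
theorem piece_of_deg {W : Y'.Opens} (hW : IsAffineOpen W) {U : Y.Opens} (hU : IsAffineOpen U) (hle : W ≤ g ⁻¹ᵁ U)
    {d : ℕ} {x : B.presheaf.obj (op W)} (hx : x ∈ deg u' W hW d) : x ∈ piece u' hU hle d := by
  classical
  obtain ⟨hc, he⟩ := coeff_tau u' hu hU hW hle x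
  set q := tau u' hu hU hW hle x
  have hind := deg_indep u' hu hW (Finset.range (q.natDegree + 1) ∪ {d}) (fun e => (if e = d then x else 0) - q.coeff e)
    (fun e _ => sub_mem (by split_ifs with h; · exact h ▸ hx
                            · exact zero_mem _) (deg_of_piece u' hW hU hle (hc e))) (by
      rw [Finset.sum_sub_distrib, Finset.sum_ite_eq', if_pos (Finset.mem_union_right _ (Finset.mem_singleton_self d)),
        ← Finset.sum_subset Finset.subset_union_left (fun e _ he => by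
          exact Polynomial.coeff_eq_zero_of_natDegree_lt (by simpa using he))]
      conv_lhs => arg 1; rw [← he]
      rw [Polynomial.eval_eq_sum_range, sub_eq_zero]
      simp)
    d (Finset.mem_union_right _ (Finset.mem_singleton_self d))
  simp only [if_true, sub_eq_zero] at hind
  exact hind ▸ hc d

include hu in
/-- Homogeneous elements on a basic open extend after multiplying by a power. -/
theorem exists_lift_deg {V : Y'.Opens} (hV : IsAffineOpen V) (r : Γ(Y', V)) {d : ℕ}
    {z : B.presheaf.obj (op (Y'.basicOpen r))} (hz : z ∈ deg u' _ (hV.basicOpen r) d) :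
    ∃ (k : ℕ) (y : B.presheaf.obj (op V)), y ∈ deg u' V hV d ∧
      rB B (Y'.basicOpen_le r) y = rB B (Y'.basicOpen_le r) ((B.str.app (op V)).hom r) ^ k * z := by
  classical
  letI := (B.presheaf.map (homOfLE (Y'.basicOpen_le r)).op).hom.toAlgebra
  haveI : IsLocalization.Away ((B.str.app (op V)).hom r) (B.presheaf.obj (op (Y'.basicOpen r))) := B.isQC V hV r
  obtain ⟨⟨a, s, k, rfl⟩, hs⟩ := IsLocalization.surj (Submonoid.powers ((B.str.app (op V)).hom r)) z
  have hs' : z * rB B (Y'.basicOpen_le r) ((B.str.app (op V)).hom r) ^ k = rB B (Y'.basicOpen_le r) a := by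
    rw [← map_pow]; exact hs
  obtain ⟨N, c, hc, hx⟩ := exists_decomp u' hu hV a
  let i := Y'.basicOpen_le r
  have hm : z * rB B i ((B.str.app (op V)).hom r) ^ k ∈ deg u' _ (hV.basicOpen r) d := by
    have h0 : rB B i ((B.str.app (op V)).hom r) ^ k ∈ deg u' _ (hV.basicOpen r) 0 := by
      rw [← map_pow, ← map_pow]
      exact deg_res u' hV (hV.basicOpen r) i ((grAlg u' hu).str_mem V hV _)
    haveI : GradedRing (deg u' (Y'.basicOpen r) (hV.basicOpen r)) := (grAlg u' hu).graded _ (hV.basicOpen r)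
    simpa using SetLike.mul_mem_graded (A := deg u' (Y'.basicOpen r) (hV.basicOpen r)) hz h0
  refine ⟨k, if d ∈ Finset.range N then c d else 0, by split_ifs; exacts [hc d, zero_mem _], ?_⟩
  rw [mul_comm _ z]
  symm
  have hind := deg_indep u' hu (hV.basicOpen r) (Finset.range N ∪ {d})
    (fun e => (if e = d then z * rB B i ((B.str.app (op V)).hom r) ^ k else 0) -
      rB B i (if e ∈ Finset.range N then c e else 0))
    (fun e _ => sub_mem (by split_ifs with h; · exact h ▸ hm
                            · exact zero_mem _)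
      (deg_res u' hV (hV.basicOpen r) i (by split_ifs; exacts [hc e, zero_mem _]))) (by
      rw [Finset.sum_sub_distrib, Finset.sum_ite_eq', if_pos (Finset.mem_union_right _ (Finset.mem_singleton_self d)),
        ← map_sum, Finset.sum_ite_mem, Finset.union_inter_cancel_left, hx, sub_eq_zero]
      exact hs')
    d (Finset.mem_union_right _ (Finset.mem_singleton_self d))
  simp only [if_true, sub_eq_zero] at hind
  exact hind

include hu in
theorem ext_basic {V : Y'.Opens} (hV : IsAffineOpen V) (r : Γ(Y', V)) {a b : B.presheaf.obj (op V)}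
    (h : rB B (Y'.basicOpen_le r) a = rB B (Y'.basicOpen_le r) b) :
    ∃ n, (B.str.app (op V)).hom r ^ n * a = (B.str.app (op V)).hom r ^ n * b := by
  letI := (B.presheaf.map (homOfLE (Y'.basicOpen_le r)).op).hom.toAlgebra
  haveI : IsLocalization.Away ((B.str.app (op V)).hom r) (B.presheaf.obj (op (Y'.basicOpen r))) := B.isQC V hV r
  obtain ⟨⟨_, n, rfl⟩, hn⟩ :=
    (IsLocalization.eq_iff_exists (Submonoid.powers ((B.str.app (op V)).hom r)) _).1 h
  exact ⟨n, hn⟩

variable (hgen : 𝒮.IsGenDegOne)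

include hu hgen in
theorem isGenDegOne : (grAlg u' hu).IsGenDegOne := by
  classical
  intro V hV
  suffices h : ∀ x : B.presheaf.obj (op V), x ∈ Subring.closure
      ((deg u' V hV 0 : Set (B.presheaf.obj (op V))) ∪ (deg u' V hV 1 : Set _)) from
    eq_top_iff.mpr fun x _ => h x
  intro x
  let T : Subring (B.presheaf.obj (op V)) := Subring.closure
    ((deg u' V hV 0 : Set (B.presheaf.obj (op V))) ∪ (deg u' V hV 1 : Set _))
  have hstr : ∀ c, (B.str.app (op V)).hom c ∈ T := fun c =>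
    Subring.subset_closure (Or.inl ((grAlg u' hu).str_mem V hV c))
  let I : Ideal Γ(Y', V) :=
    { carrier := {c | (B.str.app (op V)).hom c * x ∈ T}
      zero_mem' := by simp
      add_mem' := fun {a b} ha hb => by simpa [add_mul] using add_mem ha hb
      smul_mem' := fun c a ha => by simpa [mul_assoc] using mul_mem (hstr c) ha }
  obtain ⟨R, hR, hRU⟩ := exists_basic_cover (g := g) hV
  have hrad : ∀ r ∈ R, r ∈ I.radical := by
    intro r hr
    obtain ⟨U, hU, hle⟩ := hRU r hr
    let i := Y'.basicOpen_le r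
    let c := rB B i ((B.str.app (op V)).hom r)
    let T' : Subring (B.presheaf.obj (op (Y'.basicOpen r))) :=
      { carrier := {z | ∃ k, ∃ y ∈ T, rB B i y = c ^ k * z}
        zero_mem' := ⟨0, 0, zero_mem T, by simp⟩
        one_mem' := ⟨0, 1, one_mem T, by simp⟩
        add_mem' := by
          rintro a b ⟨k, y, hy, e⟩ ⟨l, y', hy', e'⟩
          refine ⟨k + l, (B.str.app (op V)).hom (r ^ l) * y + (B.str.app (op V)).hom (r ^ k) * y',
            add_mem (mul_mem (hstr _) hy) (mul_mem (hstr _) hy'), ?_⟩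
          simp only [map_add, map_mul, map_pow, e, e']
          ring
        neg_mem' := by
          rintro a ⟨k, y, hy, e⟩
          exact ⟨k, -y, neg_mem hy, by rw [map_neg, e, mul_neg]⟩
        mul_mem' := by
          rintro a b ⟨k, y, hy, e⟩ ⟨l, y', hy', e'⟩
          exact ⟨k + l, y * y', mul_mem hy hy', by rw [map_mul, e, e', pow_add, mul_mul_mul_comm]⟩ }
    have hd : ∀ d ≤ 1, ∀ z ∈ deg u' _ (hV.basicOpen r) d, z ∈ T' := by
      intro d hd z hz
      obtain ⟨k, y, hy, e⟩ := exists_lift_deg u' hu hV r hz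
      refine ⟨k, y, Subring.subset_closure ?_, e⟩
      rcases Nat.le_one_iff_eq_zero_or_eq_one.mp hd with rfl | rfl
      · exact Or.inl hy
      · exact Or.inr hy
    have hT' : T' = ⊤ := by
      refine top_le_iff.mp ((closure_eq_top u' hu hU (hV.basicOpen r) hle).ge.trans (Subring.closure_le.mpr ?_))
      rintro _ (⟨b, rfl⟩ | ⟨a, rfl⟩)
      · exact hd 0 zero_le_one _ ((grAlg u' hu).str_mem _ (hV.basicOpen r) b)
      · have ha : a ∈ Subring.closure ((𝒮.deg U hU 0 : Set (𝒮.presheaf.obj (op U))) ∪ (𝒮.deg U hU 1 : Set _)) := by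
          rw [hgen U hU]; trivial
        have : Subring.closure ((𝒮.deg U hU 0 : Set (𝒮.presheaf.obj (op U))) ∪ (𝒮.deg U hU 1 : Set _)) ≤
            T'.comap (uW u' hle) := by
          refine Subring.closure_le.mpr ?_
          rintro b (hb | hb)
          · exact hd 0 zero_le_one _ (deg_of_piece u' _ hU hle (uW_mem_piece u' hU hle hb))
          · exact hd 1 le_rfl _ (deg_of_piece u' _ hU hle (uW_mem_piece u' hU hle hb))
        exact this ha
    obtain ⟨k, y, hy, e⟩ : rB B i x ∈ T' := hT' ▸ Subring.mem_top _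
    obtain ⟨n, hn⟩ := ext_basic u' hu hV r (a := y) (b := (B.str.app (op V)).hom r ^ k * x) (by
      rw [e, map_mul, map_pow])
    refine ⟨n + k, ?_⟩
    show (B.str.app (op V)).hom (r ^ (n + k)) * x ∈ T
    rw [map_pow, pow_add, mul_assoc, ← hn, ← map_pow]
    exact mul_mem (hstr _) hy
  have h1 : (1 : Γ(Y', V)) ∈ I.radical := (Ideal.span_le.mpr hrad) (hR ▸ Submodule.mem_top)
  have h2 : (B.str.app (op V)).hom 1 * x ∈ T := by
    obtain ⟨n, hn⟩ := h1
    rw [one_pow] at hn
    exact hn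
  rw [map_one, one_mul] at h2
  exact h2

include hu in
theorem isFTDeg {d : ℕ} (hft : 𝒮.IsFTDeg d) : (grAlg u' hu).IsFTDeg d := by
  classical
  intro V hV
  letI := (B.str.app (op V)).hom.toAlgebra
  obtain ⟨R, hR, hRU⟩ := exists_basic_cover (g := g) hV
  have hsel : ∀ r : R, ∃ T : Finset (B.presheaf.obj (op V)), (∀ y ∈ T, y ∈ deg u' V hV d) ∧
      ∀ x ∈ deg u' V hV d, ∃ n, r.1 ^ n • x ∈ Submodule.span Γ(Y', V) (T : Set (B.presheaf.obj (op V))) := by
    rintro ⟨r, hr⟩
    obtain ⟨U, hU, hle⟩ := hRU r hr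
    obtain ⟨T₀, hT₀, hT₀'⟩ := hft U hU
    let i := Y'.basicOpen_le r
    let c := rB B i ((B.str.app (op V)).hom r)
    have hlift : ∀ t : T₀, ∃ (k : ℕ) (y : B.presheaf.obj (op V)), y ∈ deg u' V hV d ∧
        rB B i y = c ^ k * uW u' hle t.1 := fun t =>
      exists_lift_deg u' hu hV r (deg_of_piece u' _ hU hle (uW_mem_piece u' hU hle (hT₀ t.2)))
    choose k y hy he using hlift
    refine ⟨T₀.attach.image y, fun z hz => ?_, fun x hx => ?_⟩
    · obtain ⟨t, -, rfl⟩ := Finset.mem_image.mp hz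
      exact hy t
    let M := Submodule.span Γ(Y', V) ((T₀.attach.image y : Finset _) : Set (B.presheaf.obj (op V)))
    let N : AddSubgroup (B.presheaf.obj (op (Y'.basicOpen r))) :=
      { carrier := {z | ∃ n, ∃ w ∈ M, rB B i w = c ^ n * z}
        zero_mem' := ⟨0, 0, zero_mem M, by simp⟩
        add_mem' := by
          rintro a b ⟨n, w, hw, e⟩ ⟨n', w', hw', e'⟩
          refine ⟨n + n', r ^ n' • w + r ^ n • w', add_mem (M.smul_mem _ hw) (M.smul_mem _ hw'), ?_⟩
          simp only [Algebra.smul_def, RingHom.algebraMap_toAlgebra, map_add, map_mul, map_pow, e, e']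
          ring
        neg_mem' := by
          rintro a ⟨n, w, hw, e⟩
          exact ⟨n, -w, neg_mem hw, by rw [map_neg, e, mul_neg]⟩ }
    have hN : ∀ z ∈ piece u' hU hle d, z ∈ N := by
      intro z hz
      induction hz using AddSubgroup.closure_induction with
      | mem z hz =>
        obtain ⟨b, a, ha, rfl⟩ := hz
        obtain ⟨e, rfl⟩ := hT₀' a ha
        rw [map_sum, Finset.mul_sum]
        refine sum_mem fun t ht => ?_
        letI := (Y'.presheaf.map (homOfLE i).op).hom.toAlgebra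
        haveI : IsLocalization.Away r Γ(Y', Y'.basicOpen r) := hV.isLocalization_basicOpen r
        obtain ⟨⟨b', s, m, rfl⟩, hb⟩ := IsLocalization.surj (Submonoid.powers r) (b * (g.appLE U _ hle).hom (e t))
        refine ⟨m + k ⟨t, ht⟩, b' • y ⟨t, ht⟩,
          M.smul_mem _ (Submodule.subset_span (Finset.mem_coe.mpr (Finset.mem_image_of_mem y (Finset.mem_attach _ _)))), ?_⟩
        have hu1 : uW u' hle ((𝒮.str.app (op U)).hom (e t)) = (B.str.app (op _)).hom ((g.appLE U _ hle).hom (e t)) :=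
          ConcreteCategory.congr_hom (u'.str_appLE U _ hle) (e t)
        have hcm : c ^ m = (B.str.app (op (Y'.basicOpen r))).hom ((Y'.presheaf.map (homOfLE i).op).hom (r ^ m)) := by
          rw [map_pow, map_pow, ← str_rB]
        have hb' : (Y'.presheaf.map (homOfLE i).op).hom b' =
            b * (g.appLE U _ hle).hom (e t) * (Y'.presheaf.map (homOfLE i).op).hom (r ^ m) := hb.symm
        rw [Algebra.smul_def, RingHom.algebraMap_toAlgebra, map_mul, he, str_rB, hb', map_mul, map_mul, ← hcm,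
          map_mul, hu1, pow_add]
        ring
      | zero => exact zero_mem _
      | add a b _ _ ha hb => exact add_mem ha hb
      | neg a _ ha => exact neg_mem ha
    obtain ⟨n, w, hw, e⟩ := hN _ (piece_of_deg u' hu (hV.basicOpen r) hU hle (deg_res u' hV (hV.basicOpen r) i hx))
    obtain ⟨l, hl⟩ := ext_basic u' hu hV r (a := w) (b := (B.str.app (op V)).hom r ^ n * x) (by
      rw [e, map_mul, map_pow])
    refine ⟨l + n, ?_⟩
    show _ ∈ M
    have hxw : r ^ (l + n) • x = r ^ l • w := by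
      simp only [Algebra.smul_def, RingHom.algebraMap_toAlgebra, map_pow, map_mul, pow_add, mul_assoc]
      exact hl.symm
    rw [hxw]
    exact M.smul_mem _ hw
  choose T hT hT' using hsel
  let T' : Finset (B.presheaf.obj (op V)) := R.attach.biUnion T
  refine ⟨T', fun y hy => ?_, fun (x : B.presheaf.obj (op V)) (hx : x ∈ deg u' V hV d) => ?_⟩
  · obtain ⟨r, -, hy'⟩ := Finset.mem_biUnion.mp (Finset.mem_coe.mp hy)
    exact hT r y hy'
  let J : Ideal Γ(Y', V) :=
    (Submodule.span Γ(Y', V) (T' : Set (B.presheaf.obj (op V)))).comap (LinearMap.toSpanSingleton Γ(Y', V) _ x)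
  have hrad : ∀ r ∈ R, r ∈ J.radical := fun r hr => by
    obtain ⟨n, hn⟩ := hT' ⟨r, hr⟩ x hx
    exact ⟨n, Submodule.span_mono (fun y hy => Finset.mem_coe.mpr
      (Finset.mem_biUnion.mpr ⟨_, Finset.mem_attach _ _, hy⟩)) hn⟩
  obtain ⟨n, hn⟩ : (1 : Γ(Y', V)) ∈ J.radical := (Ideal.span_le.mpr hrad) (hR ▸ Submodule.mem_top)
  rw [one_pow] at hn
  have hn' : x ∈ Submodule.span Γ(Y', V) (T' : Set (B.presheaf.obj (op V))) := by
    have h0 : (1 : Γ(Y', V)) • x ∈ Submodule.span Γ(Y', V) (T' : Set (B.presheaf.obj (op V))) := hn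
    rwa [one_smul] at h0
  obtain ⟨f, -, hf⟩ := Submodule.mem_span_finset.mp hn'
  exact ⟨f, hf.symm⟩

/-- Projective morphisms are stable under base change. -/
theorem isProjective_baseChange {X : Scheme.{u}} (f : X ⟶ Y) (hf : RelProj.IsProjective f) (g : Y' ⟶ Y) :
    RelProj.IsProjective (pullback.snd f g) := by
  obtain ⟨𝒮, P, p, chart, e, hgen, hft, hP, hef⟩ := hf
  have hu := isQBaseChange_pbHom g 𝒮.toQCAlg
  obtain ⟨P', p', chart', hP'⟩ := Groth.L18.RP.exists_isRelProj (grAlg (pbHom g 𝒮.toQCAlg) hu)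
  obtain ⟨⟨h, hh⟩, hall⟩ := Groth.L18.QMap.isPullback_of_isQBaseChange (grHom (pbHom g 𝒮.toQCAlg) hu) hP hP' hu
  have hpb := hall h hh
  haveI : IsIso e.hom := e.isIso_hom
  have hX : IsPullback (pullback.fst f g ≫ e.hom) (pullback.snd f g) p g :=
    (IsPullback.of_hasPullback f g).of_iso (Iso.refl _) e (Iso.refl _) (Iso.refl _) (by simp) (by simp)
      (by simp [hef]) (by simp)
  exact ⟨grAlg (pbHom g 𝒮.toQCAlg) hu, P', p', chart', hX.isoIsPullback _ _ hpb,
    isGenDegOne _ hu hgen, isFTDeg _ hu hft, hP', hX.isoIsPullback_hom_snd _ _ hpb⟩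

end Groth.L18.PullGrade
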