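import Mathlib.AlgebraicGeometry.IdealSheaf.Subscheme
import Mathlib.AlgebraicGeometry.Morphisms.ClosedImmersion
import Mathlib.AlgebraicGeometry.Pullbacks
import Mathlib.RingTheory.Localization.Away.Basic

/-!
# The ideal cut out on an affine chart by a morphism
-/

set_option autoImplicit false

noncomputable section

universe u

open CategoryTheory CategoryTheory.Limits AlgebraicGeometry TopologicalSpace Opposite

namespace Groth.L18.PointKer

variable {Z P : Scheme.{u}} (i : Z ⟶ P) {R : CommRingCat.{u}} (e : Spec R ⟶ P)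

/-- Functions on the chart vanishing at all points lying in `Z`. -/
def ker : Ideal R where
  carrier := {q | ∀ (C : CommRingCat.{u}) (a : R ⟶ C) (h : Spec C ⟶ Z), h ≫ i = Spec.map a ≫ e → a.hom q = 0}
  zero_mem' := fun _ a _ _ => map_zero a.hom
  add_mem' := fun {x y} hx hy C a h hh => by rw [map_add, hx C a h hh, hy C a h hh, add_zero]
  smul_mem' := fun c {x} hx C a h hh => by rw [smul_eq_mul, map_mul, hx C a h hh, mul_zero]

variable {i e}

theorem mem_ker_iff {q : R} : q ∈ ker i e ↔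
    ∀ (C : CommRingCat.{u}) (a : R ⟶ C) (h : Spec C ⟶ Z), h ≫ i = Spec.map a ≫ e → a.hom q = 0 := Iff.rfl

theorem exists_univ_aux {T : Scheme.{u}} [IsAffine T] (fst : T ⟶ Z) (snd : T ⟶ Spec R)
    (h : IsPullback fst snd i e) :
    ∃ (C₀ : CommRingCat.{u}) (a₀ : R ⟶ C₀) (h₀ : Spec C₀ ⟶ Z), IsPullback h₀ (Spec.map a₀) i e ∧
      ∀ q, q ∈ ker i e ↔ a₀.hom q = 0 := by
  obtain ⟨a₀, ha₀⟩ := Spec.map_surjective (T.isoSpec.inv ≫ snd)
  have hpb : IsPullback (T.isoSpec.inv ≫ fst) (Spec.map a₀) i e := by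
    rw [ha₀]
    exact h.of_iso T.isoSpec (Iso.refl Z) (Iso.refl (Spec R)) (Iso.refl P)
      (by rw [Iso.hom_inv_id_assoc, Iso.refl_hom, Category.comp_id])
      (by rw [Iso.hom_inv_id_assoc, Iso.refl_hom, Category.comp_id])
      (by rw [Iso.refl_hom, Iso.refl_hom, Category.comp_id, Category.id_comp])
      (by rw [Iso.refl_hom, Iso.refl_hom, Category.comp_id, Category.id_comp])
  refine ⟨_, a₀, _, hpb, fun q => ⟨fun hq => hq _ a₀ _ hpb.w, fun hq C a h hh => ?_⟩⟩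
  obtain ⟨b, hb⟩ : ∃ b, Spec.map b = hpb.lift h (Spec.map a) hh := Spec.map_surjective _
  have h2 : Spec.map b ≫ Spec.map a₀ = Spec.map a := by rw [hb]; exact hpb.lift_snd _ _ hh
  have hab : a₀ ≫ b = a := Spec.map_injective ((Spec.map_comp a₀ b).trans h2)
  have h3 : b.hom (a₀.hom q) = a.hom q := ConcreteCategory.congr_hom hab q
  rw [← h3, hq, map_zero]

variable (i e) in
/-- The universal point of a chart. -/
theorem exists_univ [IsAffineHom i] :
    ∃ (C₀ : CommRingCat.{u}) (a₀ : R ⟶ C₀) (h₀ : Spec C₀ ⟶ Z), IsPullback h₀ (Spec.map a₀) i e ∧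
      ∀ q, q ∈ ker i e ↔ a₀.hom q = 0 := by
  haveI : IsAffineHom (pullback.snd i e) := MorphismProperty.pullback_snd _ _ inferInstance
  haveI : IsAffine (pullback i e) := isAffine_of_isAffineHom (pullback.snd i e)
  exact exists_univ_aux (pullback.fst i e) (pullback.snd i e) (IsPullback.of_hasPullback i e)

/-- Transport along a chart change. -/
theorem map_mem {R' : CommRingCat.{u}} {e' : Spec R' ⟶ P} (ψ : R ⟶ R') (he : e' = Spec.map ψ ≫ e) {q : R}
    (hq : q ∈ ker i e) : ψ.hom q ∈ ker i e' := fun C a h hh => by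
  have := hq C (ψ ≫ a) h (by rw [hh, he, Spec.map_comp, Category.assoc])
  exact this

theorem eq_zero_aux {R' L C₀ : CommRingCat.{u}} {e' : Spec R' ⟶ P} (ψ : R ⟶ R') (he : e' = Spec.map ψ ≫ e)
    (a₀ : R ⟶ C₀) (h₀ : Spec C₀ ⟶ Z) (hw : h₀ ≫ i = Spec.map a₀ ≫ e) (l : C₀ ⟶ L) (a' : R' ⟶ L)
    (hfac : ψ ≫ a' = a₀ ≫ l) {q : R} (hq : ψ.hom q ∈ ker i e') : l.hom (a₀.hom q) = 0 := by
  have h := hq L a' (Spec.map l ≫ h₀) (by
    rw [Category.assoc, hw, he, ← Category.assoc, ← Category.assoc, ← Spec.map_comp, ← Spec.map_comp, hfac])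
  exact (ConcreteCategory.congr_hom hfac q).symm.trans h

/-- Localization of the ideal. -/
theorem exists_pow_mul_mem [IsAffineHom i] {R' : CommRingCat.{u}} {e' : Spec R' ⟶ P} (ψ : R ⟶ R')
    (he : e' = Spec.map ψ ≫ e) (w : R) (hloc : letI := ψ.hom.toAlgebra; IsLocalization.Away w R') {q : R}
    (hq : ψ.hom q ∈ ker i e') : ∃ N, w ^ N * q ∈ ker i e := by
  letI ia : Algebra R R' := ψ.hom.toAlgebra
  haveI : IsLocalization.Away w R' := hloc
  obtain ⟨C₀, a₀, h₀, hpb, hker⟩ := exists_univ i e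
  let l : C₀ →+* Localization.Away (a₀.hom w) := algebraMap C₀ (Localization.Away (a₀.hom w))
  have hu : IsUnit ((l.comp a₀.hom) w) := IsLocalization.Away.algebraMap_isUnit (a₀.hom w)
  let a' : R' →+* Localization.Away (a₀.hom w) := IsLocalization.Away.lift (S := R') (g := l.comp a₀.hom) w hu
  have hfac : ψ ≫ CommRingCat.ofHom a' = a₀ ≫ CommRingCat.ofHom l := by
    refine CommRingCat.hom_ext (RingHom.ext fun x => ?_)
    exact IsLocalization.Away.lift_eq (S := R') (g := l.comp a₀.hom) w hu x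
  have h' : l (a₀.hom q) = 0 :=
    eq_zero_aux ψ he a₀ h₀ hpb.w (CommRingCat.ofHom l) (CommRingCat.ofHom a') hfac hq
  obtain ⟨⟨_, N, rfl⟩, hN⟩ :=
    (IsLocalization.map_eq_zero_iff (Submonoid.powers (a₀.hom w)) (Localization.Away (a₀.hom w)) (a₀.hom q)).1 h'
  refine ⟨N, (hker _).2 ?_⟩
  rw [map_mul, map_pow]
  exact hN

/-- Membership is local. -/
theorem mem_of_local {ι : Type u} (w : ι → R) (hw : Ideal.span (Set.range w) = ⊤) {q : R}
    (h : ∀ k, ∃ N, w k ^ N * q ∈ ker i e) : q ∈ ker i e := by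
  let J : Ideal R := (ker i e).colon {q}
  have hrad : ∀ k, w k ∈ J.radical := fun k => by
    obtain ⟨N, hN⟩ := h k
    exact ⟨N, Submodule.mem_colon_singleton.mpr hN⟩
  obtain ⟨N, hN⟩ : (1 : R) ∈ J.radical :=
    (Ideal.span_le.mpr (by rintro _ ⟨k, rfl⟩; exact hrad k)) (hw ▸ Submodule.mem_top)
  have := Submodule.mem_colon_singleton.mp hN
  simpa using this

variable (i e) in
/-- The ideal on sections over the chart. -/
theorem app_eq_zero_iff [IsAffineHom i] [IsOpenImmersion e] (q' : Γ(P, e.opensRange)) :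
    (i.app e.opensRange).hom q' = 0 ↔
      (Scheme.ΓSpecIso R).hom.hom ((e.appLE e.opensRange ⊤ (fun x _ => ⟨x, rfl⟩)).hom q') ∈ ker i e := by
  let W := e.opensRange
  let ρ : Γ(P, W) ⟶ R := e.appLE W ⊤ (fun x _ => ⟨x, rfl⟩) ≫ (Scheme.ΓSpecIso R).hom
  show _ ↔ ρ.hom q' ∈ ker i e
  have key : ∀ (C : CommRingCat.{u}) (a : R ⟶ C) (h : Spec C ⟶ Z) (hh : h ≫ i = Spec.map a ≫ e)
      (hle : ⊤ ≤ h ⁻¹ᵁ (i ⁻¹ᵁ W)),
      a.hom (ρ.hom q') = (Scheme.ΓSpecIso C).hom.hom ((h.appLE (i ⁻¹ᵁ W) ⊤ hle).hom ((i.app W).hom q')) := by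
    intro C a h hh hle
    have l : i.app W ≫ h.appLE (i ⁻¹ᵁ W) ⊤ hle = (h ≫ i).appLE W ⊤ (by exact hle) := by
      rw [Scheme.Hom.app_eq_appLE, Scheme.Hom.appLE_comp_appLE]
    have r : e.appLE W ⊤ (fun x _ => ⟨x, rfl⟩) ≫ (Spec.map a).appLE ⊤ ⊤ (fun _ _ => trivial) =
        (Spec.map a ≫ e).appLE W ⊤ (fun x _ => ⟨_, rfl⟩) := Scheme.Hom.appLE_comp_appLE _ _ _ _ _ _ _
    have t : (Spec.map a).appLE ⊤ ⊤ (fun _ _ => trivial) ≫ (Scheme.ΓSpecIso C).hom = (Scheme.ΓSpecIso R).hom ≫ a := by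
      rw [← Scheme.ΓSpecIso_naturality a, Scheme.Hom.appTop, Scheme.Hom.app_eq_appLE]
      rfl
    have e2 : ρ ≫ a = (i.app W ≫ h.appLE (i ⁻¹ᵁ W) ⊤ hle) ≫ (Scheme.ΓSpecIso C).hom := by
      rw [l]
      simp only [hh]
      rw [← r]
      exact (Category.assoc _ _ _).trans ((congrArg (_ ≫ ·) t.symm).trans (Category.assoc _ _ _).symm)
    exact ConcreteCategory.congr_hom e2 q'
  constructor
  · intro h0 C a h hh
    have hle : ⊤ ≤ h ⁻¹ᵁ (i ⁻¹ᵁ W) := by
      rw [← Scheme.Hom.comp_preimage, hh, Scheme.Hom.comp_preimage]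
      exact fun x _ => ⟨_, rfl⟩
    rw [key C a h hh hle, h0, map_zero, map_zero]
  · intro hq
    obtain ⟨C₀, a₀, h₀, hpb, hker⟩ := exists_univ i e
    haveI : IsOpenImmersion h₀ := MorphismProperty.of_isPullback hpb.flip inferInstance
    have hrange : h₀.opensRange = i ⁻¹ᵁ W := by
      ext z
      constructor
      · rintro ⟨y, rfl⟩
        refine ⟨(Spec.map a₀).base y, ?_⟩
        rw [← Scheme.Hom.comp_apply, ← hpb.w, Scheme.Hom.comp_apply]
      · rintro ⟨y, hy⟩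
        obtain ⟨w, h1, -⟩ := Scheme.exists_preimage_of_isPullback hpb z y hy.symm
        exact ⟨w, h1⟩
    have hpre : h₀ ⁻¹ᵁ (i ⁻¹ᵁ W) = ⊤ := by
      rw [← hrange]; ext y; exact ⟨fun _ => trivial, fun _ => ⟨y, rfl⟩⟩
    have h2 := key C₀ a₀ h₀ hpb.w hpre.ge
    rw [(hker _).1 hq] at h2
    have hinj : Function.Injective (h₀.appLE (i ⁻¹ᵁ W) ⊤ hpre.ge).hom := by
      haveI : IsIso (h₀.app (i ⁻¹ᵁ W)) := Scheme.Hom.isIso_app _ _ hrange.ge
      haveI : IsIso (homOfLE hpre.ge) := ⟨homOfLE hpre.le, rfl, rfl⟩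
      haveI : IsIso (h₀.appLE (i ⁻¹ᵁ W) ⊤ hpre.ge) := by rw [Scheme.Hom.appLE]; infer_instance
      exact (ConcreteCategory.bijective_of_isIso _).1
    apply hinj
    rw [map_zero]
    apply (ConcreteCategory.bijective_of_isIso (Scheme.ΓSpecIso C₀).hom).1
    exact h2.symm.trans (map_zero _).symm

/-- Two affine morphisms cutting out the same ideals on a cover have the same kernel. -/
theorem ker_eq_of_cover {Z' : Scheme.{u}} (i : Z ⟶ P) (i' : Z' ⟶ P) [IsAffineHom i] [IsAffineHom i']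
    {ι : Type u} (Rs : ι → CommRingCat.{u}) (es : ∀ k, Spec (Rs k) ⟶ P) [∀ k, IsOpenImmersion (es k)]
    (hcov : ∀ x : P, ∃ k, x ∈ (es k).opensRange) (h : ∀ k, ker i (es k) = ker i' (es k)) :
    i.ker = i'.ker := by
  refine Scheme.IdealSheafData.ext_of_iSup_eq_top (fun k => ⟨(es k).opensRange, isAffineOpen_opensRange (es k)⟩)
    (top_le_iff.mp fun x _ => Opens.mem_iSup.mpr (hcov x)) fun k => ?_
  rw [Scheme.Hom.ker_apply, Scheme.Hom.ker_apply]
  ext q'
  rw [RingHom.mem_ker, RingHom.mem_ker, app_eq_zero_iff i (es k), app_eq_zero_iff i' (es k), h k]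

end Groth.L18.PointKer
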