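import Groth.Prelude.Def_RelProj4
import Mathlib.Algebra.Polynomial.AlgebraMap

/-!
# The grading of an inverse-image algebra
-/

set_option autoImplicit false

noncomputable section

universe u

open CategoryTheory CategoryTheory.Limits AlgebraicGeometry TopologicalSpace Opposite

namespace Groth.L18.PullGrade

variable {Y Y' : Scheme.{u}}

/-- Restriction in a quasi-coherent algebra. -/
def rB (B : RelSpec.QCAlg Y') {W W' : Y'.Opens} (i : W' ≤ W) : B.presheaf.obj (op W) →+* B.presheaf.obj (op W') :=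
  (B.presheaf.map (homOfLE i).op).hom

variable (B : RelSpec.QCAlg Y')

theorem rB_rB {W₁ W₂ W₃ : Y'.Opens} (i : W₂ ≤ W₁) (j : W₃ ≤ W₂) (x : B.presheaf.obj (op W₁)) :
    rB B j (rB B i x) = rB B (j.trans i) x :=
  (ConcreteCategory.congr_hom (B.presheaf.map_comp (homOfLE i).op (homOfLE j).op) x).symm

theorem rB_self {W : Y'.Opens} (i : W ≤ W) (x : B.presheaf.obj (op W)) : rB B i x = x :=
  ConcreteCategory.congr_hom (B.presheaf.map_id (op W)) x

theorem ext_of_locally {V : Y'.Opens} {x y : B.presheaf.obj (op V)}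
    (h : ∀ z ∈ V, ∃ (W : Y'.Opens) (i : W ≤ V), z ∈ W ∧ rB B i x = rB B i y) : x = y := by
  choose W i hz hW using h
  exact TopCat.Sheaf.eq_of_locally_eq' (⟨B.presheaf, B.isSheaf⟩ : TopCat.Sheaf CommRingCat.{u} Y'.carrier)
    (fun z : V => W z.1 z.2) V (fun z => homOfLE (i z.1 z.2))
    (fun z hzV => Opens.mem_iSup.mpr ⟨⟨z, hzV⟩, hz z hzV⟩) x y fun z => hW z.1 z.2

theorem str_rB {W W' : Y'.Opens} (i : W' ≤ W) (c : Γ(Y', W)) :
    rB B i ((B.str.app (op W)).hom c) = (B.str.app (op W')).hom ((Y'.presheaf.map (homOfLE i).op).hom c) :=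
  (ConcreteCategory.congr_hom (B.str.naturality (homOfLE i).op) c).symm

variable {B} {g : Y' ⟶ Y} {𝒮 : RelProj.QCGrAlg Y} (u' : RelSpec.QHom g 𝒮.toQCAlg B)

/-- `u` over an affine pair, as a ring homomorphism. -/
def uW {U : Y.Opens} {W : Y'.Opens} (hle : W ≤ g ⁻¹ᵁ U) : 𝒮.presheaf.obj (op U) →+* B.presheaf.obj (op W) :=
  (u'.appLE U W hle).hom

theorem uW_rB {U U' : Y.Opens} {W W' : Y'.Opens} (hle : W ≤ g ⁻¹ᵁ U) (hle' : W' ≤ g ⁻¹ᵁ U') (i : W' ≤ W)
    (j : U' ≤ U) (a : 𝒮.presheaf.obj (op U)) :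
    rB B i (uW u' hle a) = uW u' hle' ((𝒮.presheaf.map (homOfLE j).op).hom a) := by
  exact (ConcreteCategory.congr_hom (u'.appLE_map hle i) a).trans
    (ConcreteCategory.congr_hom (u'.map_appLE j hle') a).symm

/-- The degree-`d` part over an affine pair. -/
def piece {U : Y.Opens} (hU : IsAffineOpen U) {W : Y'.Opens} (hle : W ≤ g ⁻¹ᵁ U) (d : ℕ) :
    AddSubgroup (B.presheaf.obj (op W)) :=
  AddSubgroup.closure {x | ∃ (c : Γ(Y', W)) (a : 𝒮.presheaf.obj (op U)),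
    a ∈ 𝒮.deg U hU d ∧ (B.str.app (op W)).hom c * uW u' hle a = x}

theorem mem_piece_gen {U : Y.Opens} (hU : IsAffineOpen U) {W : Y'.Opens} (hle : W ≤ g ⁻¹ᵁ U) {d : ℕ}
    (c : Γ(Y', W)) {a : 𝒮.presheaf.obj (op U)} (ha : a ∈ 𝒮.deg U hU d) :
    (B.str.app (op W)).hom c * uW u' hle a ∈ piece u' hU hle d :=
  AddSubgroup.subset_closure ⟨c, a, ha, rfl⟩

theorem uW_mem_piece {U : Y.Opens} (hU : IsAffineOpen U) {W : Y'.Opens} (hle : W ≤ g ⁻¹ᵁ U) {d : ℕ}
    {a : 𝒮.presheaf.obj (op U)} (ha : a ∈ 𝒮.deg U hU d) : uW u' hle a ∈ piece u' hU hle d := by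
  simpa using mem_piece_gen u' hU hle 1 ha

theorem str_mem_piece {U : Y.Opens} (hU : IsAffineOpen U) {W : Y'.Opens} (hle : W ≤ g ⁻¹ᵁ U) (c : Γ(Y', W)) :
    (B.str.app (op W)).hom c ∈ piece u' hU hle 0 := by
  simpa using mem_piece_gen u' hU hle c (SetLike.one_mem_graded (𝒮.deg U hU))

theorem piece_mono {U U' : Y.Opens} (hU : IsAffineOpen U) (hU' : IsAffineOpen U') {W W' : Y'.Opens}
    (hle : W ≤ g ⁻¹ᵁ U) (hle' : W' ≤ g ⁻¹ᵁ U') (i : W' ≤ W) (j : U' ≤ U) {d : ℕ}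
    {x : B.presheaf.obj (op W)} (hx : x ∈ piece u' hU hle d) : rB B i x ∈ piece u' hU' hle' d := by
  induction hx using AddSubgroup.closure_induction with
  | mem x hx =>
    obtain ⟨c, a, ha, rfl⟩ := hx
    rw [map_mul, str_rB, uW_rB u' hle hle' i j]
    exact mem_piece_gen u' hU' hle' _ (𝒮.map_mem hU hU' j ha)
  | zero => rw [map_zero]; exact zero_mem _
  | add a b _ _ ha hb => rw [map_add]; exact add_mem ha hb
  | neg a _ ha => rw [map_neg]; exact neg_mem ha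

theorem piece_mul {U : Y.Opens} (hU : IsAffineOpen U) {W : Y'.Opens} (hle : W ≤ g ⁻¹ᵁ U) {d e : ℕ}
    {x y : B.presheaf.obj (op W)} (hx : x ∈ piece u' hU hle d) (hy : y ∈ piece u' hU hle e) :
    x * y ∈ piece u' hU hle (d + e) := by
  induction hx using AddSubgroup.closure_induction with
  | mem x hx =>
    induction hy using AddSubgroup.closure_induction with
    | mem y hy =>
      obtain ⟨c, a, ha, rfl⟩ := hx
      obtain ⟨c', a', ha', rfl⟩ := hy
      rw [mul_mul_mul_comm, ← map_mul, ← map_mul]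
      exact mem_piece_gen u' hU hle _ (SetLike.mul_mem_graded ha ha')
    | zero => rw [mul_zero]; exact zero_mem _
    | add a b _ _ ha hb => rw [mul_add]; exact add_mem ha hb
    | neg a _ ha => rw [mul_neg]; exact neg_mem ha
  | zero => rw [zero_mul]; exact zero_mem _
  | add a b _ _ ha hb => rw [add_mul]; exact add_mem ha hb
  | neg a _ ha => rw [neg_mul]; exact neg_mem ha

/-- The coaction `𝒮(U) ⟶ B(W)[t]`. -/
def co {U : Y.Opens} (hU : IsAffineOpen U) {W : Y'.Opens} (hle : W ≤ g ⁻¹ᵁ U) :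
    𝒮.presheaf.obj (op U) →+* Polynomial (B.presheaf.obj (op W)) :=
  (DirectSum.toSemiring
    (fun d => ((Polynomial.monomial d).toAddMonoidHom.comp (uW u' hle).toAddMonoidHom).comp (𝒮.deg U hU d).subtype)
    (by
      show Polynomial.monomial 0 (uW u' hle 1) = 1
      rw [map_one, Polynomial.monomial_zero_left, map_one])
    (fun {i j} a b => by
      show Polynomial.monomial (i + j) (uW u' hle ((a : 𝒮.presheaf.obj (op U)) * b)) =
        Polynomial.monomial i (uW u' hle a) * Polynomial.monomial j (uW u' hle b)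
      rw [map_mul, Polynomial.monomial_mul_monomial])).comp
    (DirectSum.decomposeRingEquiv (𝒮.deg U hU)).toRingHom

theorem co_of_mem {U : Y.Opens} (hU : IsAffineOpen U) {W : Y'.Opens} (hle : W ≤ g ⁻¹ᵁ U) {d : ℕ}
    {a : 𝒮.presheaf.obj (op U)} (ha : a ∈ 𝒮.deg U hU d) : co u' hU hle a = Polynomial.monomial d (uW u' hle a) := by
  rw [co, RingHom.comp_apply,
    show (DirectSum.decomposeRingEquiv (𝒮.deg U hU)).toRingHom a = DirectSum.decompose (𝒮.deg U hU) a from rfl,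
    DirectSum.decompose_of_mem (𝒮.deg U hU) ha, DirectSum.toSemiring_of]
  rfl

section Affine

variable (hu : RelSpec.IsQBaseChange u') {U : Y.Opens} (hU : IsAffineOpen U) {W : Y'.Opens} (hW : IsAffineOpen W)
  (hle : W ≤ g ⁻¹ᵁ U)

include hu hU hW hle in
theorem exists_tau : ∃ τ : B.presheaf.obj (op W) →+* Polynomial (B.presheaf.obj (op W)),
    (∀ c, τ ((B.str.app (op W)).hom c) = Polynomial.C ((B.str.app (op W)).hom c)) ∧
      ∀ a, τ (uW u' hle a) = co u' hU hle a := by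
  have hpo := hu U hU W hW hle
  have hcond : g.appLE U W hle ≫ (B.str.app (op W) ≫ CommRingCat.ofHom Polynomial.C) =
      𝒮.str.app (op U) ≫ CommRingCat.ofHom (co u' hU hle) := by
    refine CommRingCat.hom_ext (RingHom.ext fun r => ?_)
    show Polynomial.C ((B.str.app (op W)).hom ((g.appLE U W hle).hom r)) = co u' hU hle ((𝒮.str.app (op U)).hom r)
    rw [co_of_mem u' hU hle (𝒮.str_mem U hU r), Polynomial.monomial_zero_left]
    exact congrArg Polynomial.C (ConcreteCategory.congr_hom (u'.str_appLE U W hle) r).symm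
  exact ⟨(hpo.desc _ _ hcond).hom, fun c => ConcreteCategory.congr_hom (hpo.inl_desc _ _ hcond) c,
    fun a => ConcreteCategory.congr_hom (hpo.inr_desc _ _ hcond) a⟩

/-- The grading homomorphism on `B(W)`. -/
def tau : B.presheaf.obj (op W) →+* Polynomial (B.presheaf.obj (op W)) := (exists_tau u' hu hU hW hle).choose

theorem tau_piece {d : ℕ} {x : B.presheaf.obj (op W)} (hx : x ∈ piece u' hU hle d) :
    tau u' hu hU hW hle x = Polynomial.monomial d x := by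
  induction hx using AddSubgroup.closure_induction with
  | mem x hx =>
    obtain ⟨c, a, ha, rfl⟩ := hx
    rw [map_mul, tau, (exists_tau u' hu hU hW hle).choose_spec.1, (exists_tau u' hu hU hW hle).choose_spec.2,
      co_of_mem u' hU hle ha, Polynomial.C_mul_monomial]
  | zero => rw [map_zero, map_zero]
  | add a b _ _ ha hb => rw [map_add, ha, hb, map_add]
  | neg a _ ha => rw [map_neg, ha, map_neg]

include hu hU hW hle in
theorem closure_eq_top : Subring.closure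
    (Set.range (B.str.app (op W)).hom ∪ Set.range (uW u' hle)) = ⊤ := by
  have hpo := hu U hU W hW hle
  let T := Subring.closure (Set.range (B.str.app (op W)).hom ∪ Set.range (uW u' hle))
  let s₁ : CommRingCat.of Γ(Y', W) ⟶ CommRingCat.of T :=
    CommRingCat.ofHom ((B.str.app (op W)).hom.codRestrict T fun c => Subring.subset_closure (Or.inl ⟨c, rfl⟩))
  let s₂ : CommRingCat.of (𝒮.presheaf.obj (op U)) ⟶ CommRingCat.of T :=
    CommRingCat.ofHom ((uW u' hle).codRestrict T fun a => Subring.subset_closure (Or.inr ⟨a, rfl⟩))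
  have hcond : g.appLE U W hle ≫ s₁ = 𝒮.str.app (op U) ≫ s₂ :=
    CommRingCat.hom_ext (RingHom.ext fun r => Subtype.ext (ConcreteCategory.congr_hom hpo.w r))
  have hid : hpo.desc s₁ s₂ hcond ≫ CommRingCat.ofHom T.subtype = 𝟙 _ := by
    apply hpo.hom_ext
    · rw [hpo.inl_desc_assoc, Category.comp_id]; rfl
    · rw [hpo.inr_desc_assoc, Category.comp_id]; rfl
  refine eq_top_iff.mpr fun x _ => ?_
  have hx : ((hpo.desc s₁ s₂ hcond).hom x).1 = x := ConcreteCategory.congr_hom hid x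
  exact hx ▸ ((hpo.desc s₁ s₂ hcond).hom x).2

theorem coeff_tau (x : B.presheaf.obj (op W)) :
    (∀ d, (tau u' hu hU hW hle x).coeff d ∈ piece u' hU hle d) ∧ (tau u' hu hU hW hle x).eval 1 = x := by
  classical
  let P : Subring (B.presheaf.obj (op W)) :=
    { carrier := {x | (∀ d, (tau u' hu hU hW hle x).coeff d ∈ piece u' hU hle d) ∧
        (tau u' hu hU hW hle x).eval 1 = x}
      zero_mem' := by simp
      one_mem' := by
        refine ⟨fun d => ?_, by simp⟩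
        rw [map_one, Polynomial.coeff_one]
        split_ifs with h
        · subst h; simpa using str_mem_piece u' hU hle 1
        · exact zero_mem _
      add_mem' := fun {a b} ha hb =>
        ⟨fun d => by rw [map_add, Polynomial.coeff_add]; exact add_mem (ha.1 d) (hb.1 d),
          by rw [map_add, Polynomial.eval_add, ha.2, hb.2]⟩
      neg_mem' := fun {a} ha =>
        ⟨fun d => by rw [map_neg, Polynomial.coeff_neg]; exact neg_mem (ha.1 d),
          by rw [map_neg, Polynomial.eval_neg, ha.2]⟩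
      mul_mem' := fun {a b} ha hb =>
        ⟨fun d => by
          rw [map_mul, Polynomial.coeff_mul]
          refine sum_mem fun q hq => ?_
          rw [← Finset.HasAntidiagonal.mem_antidiagonal.mp hq]
          exact piece_mul u' hU hle (ha.1 q.1) (hb.1 q.2),
          by rw [map_mul, Polynomial.eval_mul, ha.2, hb.2]⟩ }
  refine (closure_eq_top u' hu hU hW hle ▸ (Subring.closure_le (t := P)).mpr ?_) (Subring.mem_top x)
  rintro y (⟨c, rfl⟩ | ⟨a, rfl⟩)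
  · refine ⟨fun d => ?_, ?_⟩
    · rw [tau_piece u' hu hU hW hle (str_mem_piece u' hU hle c), Polynomial.coeff_monomial]
      split_ifs with h
      · subst h; exact str_mem_piece u' hU hle c
      · exact zero_mem _
    · rw [tau_piece u' hu hU hW hle (str_mem_piece u' hU hle c), Polynomial.eval_monomial, one_pow, mul_one]
  · rw [← DirectSum.sum_support_decompose (𝒮.deg U hU) a, map_sum]
    refine Subring.sum_mem P fun n _ => ⟨fun d => ?_, ?_⟩
    · rw [tau_piece u' hu hU hW hle (uW_mem_piece u' hU hle (SetLike.coe_mem _)), Polynomial.coeff_monomial]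
      split_ifs with h
      · subst h; exact uW_mem_piece u' hU hle (SetLike.coe_mem _)
      · exact zero_mem _
    · rw [tau_piece u' hu hU hW hle (uW_mem_piece u' hU hle (SetLike.coe_mem _)), Polynomial.eval_monomial,
        one_pow, mul_one]

include hu hW in
theorem piece_indep (s : Finset ℕ) (x : ℕ → B.presheaf.obj (op W)) (hx : ∀ d ∈ s, x d ∈ piece u' hU hle d)
    (h0 : ∑ d ∈ s, x d = 0) : ∀ d ∈ s, x d = 0 := by
  intro d hd
  have h := congrArg (fun y => (tau u' hu hU hW hle y).coeff d) h0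
  simp only [map_sum, Polynomial.finsetSum_coeff, map_zero, Polynomial.coeff_zero] at h
  rw [Finset.sum_eq_single d (fun e he hne => by
      rw [tau_piece u' hu hU hW hle (hx e he), Polynomial.coeff_monomial, if_neg hne])
    (fun hn => absurd hd hn), tau_piece u' hu hU hW hle (hx d hd), Polynomial.coeff_monomial, if_pos rfl] at h
  exact h

end Affine

/-- Degree `d` sections: locally in the degree `d` part of an affine pair. -/
def deg (V : Y'.Opens) (_ : IsAffineOpen V) (d : ℕ) : AddSubgroup (B.presheaf.obj (op V)) where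
  carrier := {x | ∀ z ∈ V, ∃ (U : Y.Opens) (hU : IsAffineOpen U) (W : Y'.Opens) (_ : IsAffineOpen W)
    (i : W ≤ V) (hle : W ≤ g ⁻¹ᵁ U), z ∈ W ∧ rB B i x ∈ piece u' hU hle d}
  zero_mem' := by
    intro z hz
    obtain ⟨_, ⟨U, hU, rfl⟩, hzU, -⟩ := Y.isBasis_affineOpens.exists_subset_of_mem_open
      (Set.mem_univ (g.base z)) isOpen_univ
    obtain ⟨_, ⟨W, hW, rfl⟩, hzW, hWle⟩ := Y'.isBasis_affineOpens.exists_subset_of_mem_open
      (show z ∈ V ⊓ g ⁻¹ᵁ U from ⟨hz, hzU⟩) (V ⊓ g ⁻¹ᵁ U).isOpen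
    exact ⟨U, hU, W, hW, fun y hy => (hWle hy).1, fun y hy => (hWle hy).2, hzW, by rw [map_zero]; exact zero_mem _⟩
  add_mem' {a b} ha hb z hz := by
    obtain ⟨U₁, hU₁, W₁, hW₁, i₁, l₁, hz₁, h₁⟩ := ha z hz
    obtain ⟨U₂, hU₂, W₂, hW₂, i₂, l₂, hz₂, h₂⟩ := hb z hz
    obtain ⟨_, ⟨U, hU, rfl⟩, hzU, hUle⟩ := Y.isBasis_affineOpens.exists_subset_of_mem_open
      (show g.base z ∈ U₁ ⊓ U₂ from ⟨l₁ hz₁, l₂ hz₂⟩) (U₁ ⊓ U₂).isOpen
    obtain ⟨_, ⟨W, hW, rfl⟩, hzW, hWle⟩ := Y'.isBasis_affineOpens.exists_subset_of_mem_open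
      (show z ∈ W₁ ⊓ W₂ ⊓ g ⁻¹ᵁ U from ⟨⟨hz₁, hz₂⟩, hzU⟩) (W₁ ⊓ W₂ ⊓ g ⁻¹ᵁ U).isOpen
    have hl : W ≤ g ⁻¹ᵁ U := fun y hy => (hWle hy).2
    have j₁ : W ≤ W₁ := fun y hy => (hWle hy).1.1
    have j₂ : W ≤ W₂ := fun y hy => (hWle hy).1.2
    refine ⟨U, hU, W, hW, j₁.trans i₁, hl, hzW, ?_⟩
    rw [map_add]
    refine add_mem ?_ ?_
    · rw [← rB_rB B i₁ j₁]; exact piece_mono u' hU₁ hU l₁ hl j₁ (fun y hy => (hUle hy).1) h₁
    · rw [← rB_rB B i₂ j₂]; exact piece_mono u' hU₂ hU l₂ hl j₂ (fun y hy => (hUle hy).2) h₂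
  neg_mem' {a} ha z hz := by
    obtain ⟨U₁, hU₁, W₁, hW₁, i₁, l₁, hz₁, h₁⟩ := ha z hz
    exact ⟨U₁, hU₁, W₁, hW₁, i₁, l₁, hz₁, by rw [map_neg]; exact neg_mem h₁⟩

theorem deg_of_piece {V : Y'.Opens} (hV : IsAffineOpen V) {U : Y.Opens} (hU : IsAffineOpen U)
    (hle : V ≤ g ⁻¹ᵁ U) {d : ℕ} {x : B.presheaf.obj (op V)} (hx : x ∈ piece u' hU hle d) : x ∈ deg u' V hV d :=
  fun z hz => ⟨U, hU, V, hV, le_rfl, hle, hz, by rwa [rB_self]⟩

theorem deg_res {V V' : Y'.Opens} (hV : IsAffineOpen V) (hV' : IsAffineOpen V') (i : V' ≤ V) {d : ℕ}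
    {x : B.presheaf.obj (op V)} (hx : x ∈ deg u' V hV d) : rB B i x ∈ deg u' V' hV' d := by
  intro z hz
  obtain ⟨U, hU, W, hW, j, hle, hzW, h⟩ := hx z (i hz)
  obtain ⟨_, ⟨W', hW', rfl⟩, hzW', hWle⟩ := Y'.isBasis_affineOpens.exists_subset_of_mem_open
    (show z ∈ V' ⊓ W from ⟨hz, hzW⟩) (V' ⊓ W).isOpen
  have k : W' ≤ W := fun y hy => (hWle hy).2
  refine ⟨U, hU, W', hW', fun y hy => (hWle hy).1, k.trans hle, hzW', ?_⟩
  rw [rB_rB]
  have := piece_mono u' hU hU hle (k.trans hle) k le_rfl h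
  rwa [rB_rB] at this

/-- Near any point finitely many degree conditions hold on one affine pair. -/
theorem exists_common {V : Y'.Opens} (hV : IsAffineOpen V) (s : Finset ℕ) (x : ℕ → B.presheaf.obj (op V))
    (hx : ∀ d ∈ s, x d ∈ deg u' V hV d) {U₀ : Y.Opens} (hU₀ : IsAffineOpen U₀) (z : Y') (hz : z ∈ V)
    (hz₀ : g.base z ∈ U₀) (W₀ : Y'.Opens) (hz₀' : z ∈ W₀) :
    ∃ (U : Y.Opens) (hU : IsAffineOpen U) (W : Y'.Opens) (_ : IsAffineOpen W) (i : W ≤ V) (hle : W ≤ g ⁻¹ᵁ U),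
      z ∈ W ∧ U ≤ U₀ ∧ W ≤ W₀ ∧ ∀ d ∈ s, rB B i (x d) ∈ piece u' hU hle d := by
  classical
  induction s using Finset.induction_on with
  | empty =>
    obtain ⟨_, ⟨W, hW, rfl⟩, hzW, hWle⟩ := Y'.isBasis_affineOpens.exists_subset_of_mem_open
      (show z ∈ V ⊓ W₀ ⊓ g ⁻¹ᵁ U₀ from ⟨⟨hz, hz₀'⟩, hz₀⟩) (V ⊓ W₀ ⊓ g ⁻¹ᵁ U₀).isOpen
    exact ⟨U₀, hU₀, W, hW, fun y hy => (hWle hy).1.1, fun y hy => (hWle hy).2, hzW, le_rfl,
      fun y hy => (hWle hy).1.2, fun d hd => absurd hd (Finset.notMem_empty d)⟩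
  | insert e s he ih =>
    obtain ⟨U₁, hU₁, W₁, hW₁, i₁, l₁, hz₁, hU₁₀, hW₁₀, h₁⟩ := ih fun d hd => hx d (Finset.mem_insert_of_mem hd)
    obtain ⟨U₂, hU₂, W₂, hW₂, i₂, l₂, hz₂, h₂⟩ := hx e (Finset.mem_insert_self e s) z hz
    obtain ⟨_, ⟨U, hU, rfl⟩, hzU, hUle⟩ := Y.isBasis_affineOpens.exists_subset_of_mem_open
      (show g.base z ∈ U₁ ⊓ U₂ from ⟨l₁ hz₁, l₂ hz₂⟩) (U₁ ⊓ U₂).isOpen
    obtain ⟨_, ⟨W, hW, rfl⟩, hzW, hWle⟩ := Y'.isBasis_affineOpens.exists_subset_of_mem_open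
      (show z ∈ W₁ ⊓ W₂ ⊓ g ⁻¹ᵁ U from ⟨⟨hz₁, hz₂⟩, hzU⟩) (W₁ ⊓ W₂ ⊓ g ⁻¹ᵁ U).isOpen
    have hl : W ≤ g ⁻¹ᵁ U := fun y hy => (hWle hy).2
    have j₁ : W ≤ W₁ := fun y hy => (hWle hy).1.1
    have j₂ : W ≤ W₂ := fun y hy => (hWle hy).1.2
    have k₁ : U ≤ U₁ := fun y hy => (hUle hy).1
    refine ⟨U, hU, W, hW, j₁.trans i₁, hl, hzW, k₁.trans hU₁₀, j₁.trans hW₁₀, fun d hd => ?_⟩
    rcases Finset.mem_insert.mp hd with rfl | hd
    · rw [← show rB B j₂ (rB B i₂ (x d)) = rB B (j₁.trans i₁) (x d) from rB_rB B i₂ j₂ _]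
      exact piece_mono u' hU₂ hU l₂ hl j₂ (fun y hy => (hUle hy).2) h₂
    · rw [← rB_rB B i₁ j₁]
      exact piece_mono u' hU₁ hU l₁ hl j₁ k₁ (h₁ d hd)

variable (hu : RelSpec.IsQBaseChange u')

include hu in
theorem deg_indep {V : Y'.Opens} (hV : IsAffineOpen V) (s : Finset ℕ) (x : ℕ → B.presheaf.obj (op V))
    (hx : ∀ d ∈ s, x d ∈ deg u' V hV d) (h0 : ∑ d ∈ s, x d = 0) : ∀ d ∈ s, x d = 0 := by
  intro d hd
  refine ext_of_locally B fun z hz => ?_
  obtain ⟨_, ⟨U₀, hU₀, rfl⟩, hzU, -⟩ := Y.isBasis_affineOpens.exists_subset_of_mem_open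
    (Set.mem_univ (g.base z)) isOpen_univ
  obtain ⟨U, hU, W, hW, i, hle, hzW, -, -, h⟩ := exists_common u' hV s x hx hU₀ z hz hzU V hz
  refine ⟨W, i, hzW, ?_⟩
  rw [map_zero]
  exact piece_indep u' hu hU hW hle s (fun e => rB B i (x e)) h (by rw [← map_sum, h0, map_zero]) d hd

include hu in
theorem exists_decomp {V : Y'.Opens} (hV : IsAffineOpen V) (x : B.presheaf.obj (op V)) :
    ∃ (N : ℕ) (c : ℕ → B.presheaf.obj (op V)), (∀ d, c d ∈ deg u' V hV d) ∧ ∑ d ∈ Finset.range N, c d = x := by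
  classical
  have hloc : ∀ z : V, ∃ (U : Y.Opens) (_ : IsAffineOpen U) (W : Y'.Opens) (_ : IsAffineOpen W)
      (_ : W ≤ V), W ≤ g ⁻¹ᵁ U ∧ z.1 ∈ W := by
    intro z
    obtain ⟨_, ⟨U, hU, rfl⟩, hzU, -⟩ := Y.isBasis_affineOpens.exists_subset_of_mem_open
      (Set.mem_univ (g.base z.1)) isOpen_univ
    obtain ⟨_, ⟨W, hW, rfl⟩, hzW, hWle⟩ := Y'.isBasis_affineOpens.exists_subset_of_mem_open
      (show z.1 ∈ V ⊓ g ⁻¹ᵁ U from ⟨z.2, hzU⟩) (V ⊓ g ⁻¹ᵁ U).isOpen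
    exact ⟨U, hU, W, hW, fun y hy => (hWle hy).1, fun y hy => (hWle hy).2, hzW⟩
  choose U hU W hW i hle hzW using hloc
  obtain ⟨t, ht⟩ := hV.isCompact.elim_finite_subcover (fun z : V => (W z : Set Y')) (fun z => (W z).isOpen)
    (fun y hy => Set.mem_iUnion.mpr ⟨⟨y, hy⟩, hzW _⟩)
  let C : ∀ z : t, ℕ → B.presheaf.obj (op (W z.1)) := fun z d =>
    (tau u' hu (hU z.1) (hW z.1) (hle z.1) (rB B (i z.1) x)).coeff d
  have hcomp : ∀ d, TopCat.Presheaf.IsCompatible B.presheaf (fun z : t => W z.1) (fun z => C z d) := by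
    intro d a b
    refine ext_of_locally B fun y hy => ?_
    obtain ⟨_, ⟨U', hU', rfl⟩, hyU, hUle⟩ := Y.isBasis_affineOpens.exists_subset_of_mem_open
      (show g.base y ∈ U a.1 ⊓ U b.1 from ⟨hle a.1 hy.1, hle b.1 hy.2⟩) (U a.1 ⊓ U b.1).isOpen
    obtain ⟨_, ⟨W', hW', rfl⟩, hyW, hWle⟩ := Y'.isBasis_affineOpens.exists_subset_of_mem_open
      (show y ∈ (W a.1 ⊓ W b.1) ⊓ g ⁻¹ᵁ U' from ⟨hy, hyU⟩) ((W a.1 ⊓ W b.1) ⊓ g ⁻¹ᵁ U').isOpen
    have hl : W' ≤ g ⁻¹ᵁ U' := fun w hw => (hWle hw).2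
    have j : W' ≤ W a.1 ⊓ W b.1 := fun w hw => (hWle hw).1
    refine ⟨W', j, hyW, ?_⟩
    have key : ∀ (c : t) (k : W' ≤ W c.1), U' ≤ U c.1 →
        rB B k (C c d) = (tau u' hu hU' hW' hl (rB B (k.trans (i c.1)) x)).coeff d := by
      intro c k k'
      have hp := coeff_tau u' hu (hU c.1) (hW c.1) (hle c.1) (rB B (i c.1) x)
      conv_rhs => rw [← rB_rB B (i c.1) k, ← hp.2, Polynomial.eval_eq_sum, Polynomial.sum_def, map_sum, map_sum]
      rw [Polynomial.finsetSum_coeff, Finset.sum_eq_single d]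
      · simp only [one_pow, mul_one]
        rw [tau_piece u' hu hU' hW' hl (piece_mono u' (hU c.1) hU' (hle c.1) hl k k' (hp.1 d)),
          Polynomial.coeff_monomial, if_pos rfl]
      · intro e _ hne
        simp only [one_pow, mul_one]
        rw [tau_piece u' hu hU' hW' hl (piece_mono u' (hU c.1) hU' (hle c.1) hl k k' (hp.1 e)),
          Polynomial.coeff_monomial, if_neg hne]
      · intro hd
        simp only [one_pow, mul_one, Polynomial.notMem_support_iff.mp hd, map_zero, Polynomial.coeff_zero]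
    show rB B j (rB B inf_le_left (C a d)) = rB B j (rB B inf_le_right (C b d))
    rw [rB_rB, rB_rB, key a _ (fun w hw => (hUle hw).1), key b _ (fun w hw => (hUle hw).2)]
  have hgl : ∀ d, ∃ s : B.presheaf.obj (op V), ∀ z : t, rB B (i z.1) s = C z d := fun d =>
    (TopCat.Sheaf.existsUnique_gluing' (⟨B.presheaf, B.isSheaf⟩ : TopCat.Sheaf CommRingCat.{u} Y'.carrier)
      (fun z : t => W z.1) V (fun z => homOfLE (i z.1)) (fun y hy => by
        obtain ⟨z, hz, hy'⟩ := Set.mem_iUnion₂.mp (ht hy)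
        exact Opens.mem_iSup.mpr ⟨⟨z, hz⟩, hy'⟩) _ (hcomp d)).exists
  choose c hc using hgl
  have hcov : ∀ y ∈ V, ∃ z : t, y ∈ W z.1 := fun y hy => by
    obtain ⟨z, hz, hy'⟩ := Set.mem_iUnion₂.mp (ht hy)
    exact ⟨⟨z, hz⟩, hy'⟩
  refine ⟨t.attach.sup (fun z => (tau u' hu (hU z.1) (hW z.1) (hle z.1) (rB B (i z.1) x)).natDegree + 1), c,
    fun d y hy => ?_, ext_of_locally B fun y hy => ?_⟩
  · obtain ⟨z, hz⟩ := hcov y hy
    exact ⟨U z.1, hU z.1, W z.1, hW z.1, i z.1, hle z.1, hz,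
      (hc d z).symm ▸ (coeff_tau u' hu (hU z.1) (hW z.1) (hle z.1) (rB B (i z.1) x)).1 d⟩
  · obtain ⟨z, hz⟩ := hcov y hy
    refine ⟨W z.1, i z.1, hz, ?_⟩
    rw [map_sum, Finset.sum_congr rfl fun d _ => hc d z]
    conv_rhs => rw [← (coeff_tau u' hu (hU z.1) (hW z.1) (hle z.1) (rB B (i z.1) x)).2]
    rw [Polynomial.eval_eq_sum_range'
      (Nat.lt_of_succ_le (Finset.le_sup (f := fun z : t =>
        (tau u' hu (hU z.1) (hW z.1) (hle z.1) (rB B (i z.1) x)).natDegree + 1) (Finset.mem_attach t z)))]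
    simp only [one_pow, mul_one]
    rfl

include hu in
theorem nonempty_gradedRing (V : Y'.Opens) (hV : IsAffineOpen V) : Nonempty (GradedRing (deg u' V hV)) := by
  classical
  haveI : SetLike.GradedMonoid (deg u' V hV) :=
    { one_mem := fun z hz => by
        obtain ⟨_, ⟨U, hU, rfl⟩, hzU, -⟩ := Y.isBasis_affineOpens.exists_subset_of_mem_open
          (Set.mem_univ (g.base z)) isOpen_univ
        obtain ⟨_, ⟨W, hW, rfl⟩, hzW, hWle⟩ := Y'.isBasis_affineOpens.exists_subset_of_mem_open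
          (show z ∈ V ⊓ g ⁻¹ᵁ U from ⟨hz, hzU⟩) (V ⊓ g ⁻¹ᵁ U).isOpen
        refine ⟨U, hU, W, hW, fun y hy => (hWle hy).1, fun y hy => (hWle hy).2, hzW, ?_⟩
        rw [map_one, ← map_one (uW u' (fun y hy => (hWle hy).2 : W ≤ g ⁻¹ᵁ U))]
        exact uW_mem_piece u' hU _ (SetLike.one_mem_graded _)
      mul_mem := fun d e a b ha hb z hz => by
        obtain ⟨U₁, hU₁, W₁, hW₁, i₁, l₁, hz₁, h₁⟩ := ha z hz
        obtain ⟨U₂, hU₂, W₂, hW₂, i₂, l₂, hz₂, h₂⟩ := hb z hz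
        obtain ⟨_, ⟨U, hU, rfl⟩, hzU, hUle⟩ := Y.isBasis_affineOpens.exists_subset_of_mem_open
          (show g.base z ∈ U₁ ⊓ U₂ from ⟨l₁ hz₁, l₂ hz₂⟩) (U₁ ⊓ U₂).isOpen
        obtain ⟨_, ⟨W, hW, rfl⟩, hzW, hWle⟩ := Y'.isBasis_affineOpens.exists_subset_of_mem_open
          (show z ∈ W₁ ⊓ W₂ ⊓ g ⁻¹ᵁ U from ⟨⟨hz₁, hz₂⟩, hzU⟩) (W₁ ⊓ W₂ ⊓ g ⁻¹ᵁ U).isOpen
        have hl : W ≤ g ⁻¹ᵁ U := fun y hy => (hWle hy).2
        have j₁ : W ≤ W₁ := fun y hy => (hWle hy).1.1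
        have j₂ : W ≤ W₂ := fun y hy => (hWle hy).1.2
        refine ⟨U, hU, W, hW, j₁.trans i₁, hl, hzW, ?_⟩
        rw [map_mul]
        refine piece_mul u' hU hl ?_ ?_
        · rw [← rB_rB B i₁ j₁]; exact piece_mono u' hU₁ hU l₁ hl j₁ (fun y hy => (hUle hy).1) h₁
        · rw [← rB_rB B i₂ j₂]; exact piece_mono u' hU₂ hU l₂ hl j₂ (fun y hy => (hUle hy).2) h₂ }
  refine ⟨{ toDecomposition := DirectSum.IsInternal.chooseDecomposition (deg u' V hV) ⟨?_, fun x => ?_⟩ }⟩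
  · rw [injective_iff_map_eq_zero]
    intro w hw
    rw [DirectSum.coeAddMonoidHom_eq_dfinsuppSum, DFinsupp.sum] at hw
    refine DFinsupp.ext fun d => Subtype.ext ?_
    by_cases hd : d ∈ w.support
    · exact deg_indep u' hu hV _ (fun e => (w e : B.presheaf.obj (op V))) (fun e _ => (w e).2) hw d hd
    · rw [DFinsupp.notMem_support_iff.mp hd]; rfl
  · obtain ⟨N, c, hc, hx⟩ := exists_decomp u' hu hV x
    refine ⟨∑ d ∈ Finset.range N, DirectSum.of (fun d => deg u' V hV d) d ⟨c d, hc d⟩, ?_⟩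
    rw [map_sum]
    simpa using hx

/-- The inverse-image graded algebra. -/
def grAlg : RelProj.QCGrAlg Y' where
  toQCAlg := B
  deg := deg u'
  graded V hV := (nonempty_gradedRing u' hu V hV).some
  map_mem hV hV' i _ _ hx := deg_res u' hV hV' i hx
  str_mem V hV c := by
    intro z hz
    obtain ⟨_, ⟨U, hU, rfl⟩, hzU, -⟩ := Y.isBasis_affineOpens.exists_subset_of_mem_open
      (Set.mem_univ (g.base z)) isOpen_univ
    obtain ⟨_, ⟨W, hW, rfl⟩, hzW, hWle⟩ := Y'.isBasis_affineOpens.exists_subset_of_mem_open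
      (show z ∈ V ⊓ g ⁻¹ᵁ U from ⟨hz, hzU⟩) (V ⊓ g ⁻¹ᵁ U).isOpen
    refine ⟨U, hU, W, hW, fun y hy => (hWle hy).1, fun y hy => (hWle hy).2, hzW, ?_⟩
    rw [str_rB]
    exact str_mem_piece u' hU _ _

/-- The graded morphism to the inverse image. -/
def grHom : RelProj.QGrHom g 𝒮 (grAlg u' hu) where
  toQHom := u'
  map_mem _ hU _ hU' hle _ _ hx := deg_of_piece u' hU' hU hle (uW_mem_piece u' hU hle hx)

end Groth.L18.PullGrade
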