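import Groth.Agent.L18.ProjAlg.PointKer
import Groth.Agent.L18.RelProj.BasicOpen
import Groth.Agent.L18.RelProj.GenDegOne
import Groth.Agent.L18.RelProj.Localization

/-!
# Homogeneous elements vanishing on a closed subscheme of a relative `Proj`
-/

set_option autoImplicit false

noncomputable section

universe u

open CategoryTheory CategoryTheory.Limits AlgebraicGeometry TopologicalSpace Opposite HomogeneousLocalization
open scoped HomogeneousIdeal

namespace Groth.L18.VanishI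

section Absolute

variable {A σ : Type u} [CommRing A] [SetLike σ A] [AddSubgroupClass σ A] (𝒜 : ℕ → σ) [GradedRing 𝒜]

/-- `x / t^d` for `t` of degree one. -/
def frac {t : A} (ht : t ∈ 𝒜 1) {d : ℕ} {x : A} (hx : x ∈ 𝒜 d) : Away 𝒜 t :=
  Away.mk 𝒜 ht d x (by simpa using hx)

theorem frac_zero {t : A} (ht : t ∈ 𝒜 1) (d : ℕ) : frac 𝒜 ht (zero_mem (𝒜 d)) = 0 :=
  val_injective _ (by simp [frac, Away.val_mk, Localization.mk_zero])

theorem frac_add {t : A} (ht : t ∈ 𝒜 1) {d : ℕ} {x y : A} (hx : x ∈ 𝒜 d) (hy : y ∈ 𝒜 d) :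
    frac 𝒜 ht (add_mem hx hy) = frac 𝒜 ht hx + frac 𝒜 ht hy :=
  val_injective _ (by simp [frac, Away.val_mk, Localization.add_mk_self])

theorem frac_congr {t : A} (ht : t ∈ 𝒜 1) {d : ℕ} {x y : A} (h : x = y) (hx : x ∈ 𝒜 d) (hy : y ∈ 𝒜 d) :
    frac 𝒜 ht hx = frac 𝒜 ht hy := by subst h; rfl

theorem frac_mul {t : A} (ht : t ∈ 𝒜 1) {d e : ℕ} {x y : A} (hx : x ∈ 𝒜 d) (hy : y ∈ 𝒜 e) :
    frac 𝒜 ht (SetLike.mul_mem_graded hx hy) = frac 𝒜 ht hx * frac 𝒜 ht hy :=
  val_injective _ (by simp [frac, Away.val_mk, Localization.mk_mul, pow_add])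

theorem frac_mul' {t : A} (ht : t ∈ 𝒜 1) {d e n : ℕ} (hn : d + e = n) {x y : A} (hx : x ∈ 𝒜 d) (hy : y ∈ 𝒜 e)
    (h : x * y ∈ 𝒜 n) : frac 𝒜 ht h = frac 𝒜 ht hx * frac 𝒜 ht hy := by
  subst hn
  exact frac_mul 𝒜 ht hx hy

theorem frac_pow {t : A} (ht : t ∈ 𝒜 1) {d : ℕ} {x : A} (hx : x ∈ 𝒜 d) (n : ℕ) (h : x ^ n ∈ 𝒜 (n * d)) :
    frac 𝒜 ht h = frac 𝒜 ht hx ^ n :=
  val_injective _ (by simp [frac, Away.val_mk, Localization.mk_pow, ← pow_mul, mul_comm])

variable {Z P : Scheme.{u}} (i : Z ⟶ P) (ε : Proj 𝒜 ⟶ P)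

/-- The chart at a degree-one element. -/
abbrev chartAt {t : A} (ht : t ∈ 𝒜 1) : Spec (CommRingCat.of (Away 𝒜 t)) ⟶ P :=
  Proj.awayι 𝒜 t ht one_pos ≫ ε

/-- The functions on the chart at `t` vanishing on `Z`. -/
abbrev K {t : A} (ht : t ∈ 𝒜 1) : Ideal (Away 𝒜 t) := PointKer.ker i (chartAt 𝒜 ε ht)

/-- Vanishing of a homogeneous element at a set of frames. -/
def Cond (d : ℕ) (x : A) : Prop :=
  ∀ (t : A) (ht : t ∈ 𝒜 1) (hx : x ∈ 𝒜 d), frac 𝒜 ht hx ∈ K 𝒜 i ε ht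

/-- Exchange of frames. -/
theorem exchange [IsAffineHom i] {t : A} (ht : t ∈ 𝒜 1) {t' : A} (ht' : t' ∈ 𝒜 1) {d : ℕ} {x : A} (hx : x ∈ 𝒜 d)
    (h : frac 𝒜 ht hx ∈ K 𝒜 i ε ht) : ∃ N, frac 𝒜 ht' ht ^ N * frac 𝒜 ht' hx ∈ K 𝒜 i ε ht' := by
  have hx2 : t' * t ∈ 𝒜 (1 + 1) := SetLike.mul_mem_graded ht' ht
  let e2 : Spec (CommRingCat.of (Away 𝒜 (t' * t))) ⟶ P := Proj.awayι 𝒜 (t' * t) hx2 (by omega) ≫ ε
  let ψ : CommRingCat.of (Away 𝒜 t') ⟶ CommRingCat.of (Away 𝒜 (t' * t)) :=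
    CommRingCat.ofHom (awayMap 𝒜 ht (rfl : t' * t = t' * t))
  let ψ' : CommRingCat.of (Away 𝒜 t) ⟶ CommRingCat.of (Away 𝒜 (t' * t)) :=
    CommRingCat.ofHom (awayMap 𝒜 ht' (mul_comm t' t))
  have he : e2 = Spec.map ψ ≫ chartAt 𝒜 ε ht' := by
    simp only [e2, ψ, chartAt, ← Category.assoc, Proj.SpecMap_awayMap_awayι]
  have he' : e2 = Spec.map ψ' ≫ chartAt 𝒜 ε ht := by
    simp only [e2, ψ', chartAt, ← Category.assoc, Proj.SpecMap_awayMap_awayι]
  have hr : (awayMap 𝒜 ht (rfl : t' * t = t' * t)) (frac 𝒜 ht' hx) =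
      (awayMap 𝒜 ht (rfl : t' * t = t' * t)) (frac 𝒜 ht' ht) ^ d *
        (awayMap 𝒜 ht' (mul_comm t' t)) (frac 𝒜 ht hx) := by
    apply val_injective
    simp only [frac, val_mul, val_pow, awayMap_mk, Away.val_mk, Localization.mk_pow, Localization.mk_mul]
    rw [Localization.mk_eq_mk_iff, Localization.r_iff_exists]
    refine ⟨1, ?_⟩
    simp only [Submonoid.coe_mul, SubmonoidClass.coe_pow, OneMemClass.coe_one, one_mul, mul_pow]
    ring
  have hmem : ψ.hom (frac 𝒜 ht' hx) ∈ PointKer.ker i e2 := by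
    show (awayMap 𝒜 ht (rfl : t' * t = t' * t)) (frac 𝒜 ht' hx) ∈ _
    rw [hr]
    exact Ideal.mul_mem_left _ _ (PointKer.map_mem ψ' he' h)
  have hw : Away.isLocalizationElem (𝒜 := 𝒜) ht' ht = frac 𝒜 ht' ht :=
    val_injective _ (by simp [Away.isLocalizationElem, frac, Away.val_mk])
  exact PointKer.exists_pow_mul_mem ψ he (frac 𝒜 ht' ht)
    (hw ▸ Away.isLocalization_mul (𝒜 := 𝒜) ht' ht rfl one_ne_zero) hmem

/-- It is enough to test frames generating the degree-one part. -/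
theorem cond_of_gens [IsAffineHom i] {S : Set A} (hS : S ⊆ (𝒜 1 : Set A)) (hspan : ∀ z ∈ 𝒜 1, z ∈ Ideal.span S)
    {d : ℕ} {x : A} (hx : x ∈ 𝒜 d) (h : ∀ t, ∀ ht : t ∈ S, frac 𝒜 (hS ht) hx ∈ K 𝒜 i ε (hS ht)) :
    Cond 𝒜 i ε d x := by
  classical
  intro t ht _
  refine PointKer.mem_of_local (fun s : S => frac 𝒜 ht (hS s.2)) ?_ fun s => ?_
  · rw [Ideal.eq_top_iff_one]
    obtain ⟨f, hsupp, hf⟩ := Submodule.mem_span_set.mp (hspan t ht)
    have h1 : (1 : Away 𝒜 t) = ∑ s ∈ f.support.attach,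
        frac 𝒜 ht (DirectSum.decompose 𝒜 (f s.1) 0).2 * frac 𝒜 ht (hS (hsupp s.2)) := by
      have hsum : t = ∑ s ∈ f.support.attach, (DirectSum.decompose 𝒜 (f s.1) 0 : A) * s.1 := by
        conv_lhs => rw [← DirectSum.decompose_of_mem_same 𝒜 ht, ← hf, Finsupp.sum, DirectSum.decompose_sum,
          DFinsupp.finsetSum_apply, AddSubmonoidClass.coe_finsetSum, ← Finset.sum_attach]
        refine Finset.sum_congr rfl fun s _ => ?_
        simpa using DirectSum.coe_decompose_mul_of_right_mem_of_le 𝒜 (hS (hsupp s.2)) (a := f s.1) le_rfl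
      apply val_injective
      rw [val_one, show (∑ s ∈ f.support.attach,
        frac 𝒜 ht (DirectSum.decompose 𝒜 (f s.1) 0).2 * frac 𝒜 ht (hS (hsupp s.2))).val =
          ∑ s ∈ f.support.attach,
            (frac 𝒜 ht (DirectSum.decompose 𝒜 (f s.1) 0).2 * frac 𝒜 ht (hS (hsupp s.2))).val from
        map_sum (algebraMap (Away 𝒜 t) (Localization (Submonoid.powers t))) _ _]
      simp only [val_mul, frac, Away.val_mk, Localization.mk_mul]
      have key : ∀ (a : A) (w : Submonoid.powers t), Localization.mk a w =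
          algebraMap A (Localization (Submonoid.powers t)) a * Localization.mk 1 w := fun a w => by
        rw [← Localization.mk_one_eq_algebraMap, Localization.mk_mul, mul_one, one_mul]
      rw [Finset.sum_congr rfl fun s _ => (congrArg (Localization.mk _)
        (Subtype.ext (by simp) : _ = (⟨t, Submonoid.mem_powers t⟩ : Submonoid.powers t))).trans (key _ _),
        ← Finset.sum_mul, ← map_sum, ← hsum, ← key]
      exact (Localization.mk_self (⟨t, Submonoid.mem_powers t⟩ : Submonoid.powers t)).symm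
    rw [h1]
    exact Ideal.sum_mem _ fun s _ => Ideal.mul_mem_left _ _ (Ideal.subset_span ⟨⟨s.1, hsupp s.2⟩, rfl⟩)
  · exact exchange 𝒜 i ε (hS s.2) ht hx (h s.1 s.2)

/-- The ideal of elements vanishing on `Z`. -/
def vanish : Ideal A where
  carrier := {x | ∀ d, Cond 𝒜 i ε d (DirectSum.decompose 𝒜 x d : A)}
  zero_mem' d t ht hx := by
    simp only [DirectSum.decompose_zero, DirectSum.zero_apply, ZeroMemClass.coe_zero] at hx ⊢
    rw [frac_zero]; exact zero_mem _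
  add_mem' {x y} hx hy d t ht h := by
    simp only [DirectSum.decompose_add, DirectSum.add_apply, AddMemClass.coe_add] at h ⊢
    rw [frac_add 𝒜 ht (SetLike.coe_mem _) (SetLike.coe_mem _)]
    exact add_mem (hx d t ht _) (hy d t ht _)
  smul_mem' a x hx := by
    classical
    rw [smul_eq_mul, ← DirectSum.sum_support_decompose 𝒜 a, Finset.sum_mul]
    intro d t ht h
    have key : ∀ (s : Finset ℕ) (h : (DirectSum.decompose 𝒜 (∑ j ∈ s, (DirectSum.decompose 𝒜 a j : A) * x) d : A) ∈ 𝒜 d),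
        frac 𝒜 ht h ∈ K 𝒜 i ε ht := by
      intro s
      induction s using Finset.induction_on with
      | empty =>
        intro h
        simp only [Finset.sum_empty, DirectSum.decompose_zero, DirectSum.zero_apply, ZeroMemClass.coe_zero] at h ⊢
        rw [frac_zero]; exact zero_mem _
      | insert j s hj ih =>
        intro h
        simp only [Finset.sum_insert hj, DirectSum.decompose_add, DirectSum.add_apply, AddMemClass.coe_add] at h ⊢
        rw [frac_add 𝒜 ht (SetLike.coe_mem _) (SetLike.coe_mem _)]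
        refine add_mem ?_ (ih _)
        have he := DirectSum.coe_decompose_mul_of_left_mem 𝒜 d (b := x) (SetLike.coe_mem (DirectSum.decompose 𝒜 a j))
        by_cases hjd : j ≤ d
        · rw [if_pos hjd] at he
          rw [frac_congr 𝒜 ht he (SetLike.coe_mem _) (he ▸ SetLike.coe_mem _),
            frac_mul' 𝒜 ht (show j + (d - j) = d by omega) (SetLike.coe_mem _) (SetLike.coe_mem _)]
          exact Ideal.mul_mem_left _ _ (hx (d - j) t ht _)
        · rw [if_neg hjd] at he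
          rw [frac_congr 𝒜 ht he (SetLike.coe_mem _) (zero_mem _), frac_zero]
          exact zero_mem _
    exact key _ h

theorem mem_vanish_iff {d : ℕ} {x : A} (hx : x ∈ 𝒜 d) : x ∈ vanish 𝒜 i ε ↔ Cond 𝒜 i ε d x := by
  refine ⟨fun h => ?_, fun h e t ht hx' => ?_⟩
  · have := h d
    rwa [DirectSum.decompose_of_mem_same 𝒜 hx] at this
  · by_cases he : d = e
    · subst he
      simp only [DirectSum.decompose_of_mem_same 𝒜 hx] at hx' ⊢
      exact h t ht hx'
    · simp only [DirectSum.decompose_of_mem_ne 𝒜 hx he] at hx' ⊢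
      rw [frac_zero]; exact zero_mem _

theorem decompose_mem_vanish {x : A} (hx : x ∈ vanish 𝒜 i ε) (d : ℕ) :
    (DirectSum.decompose 𝒜 x d : A) ∈ vanish 𝒜 i ε :=
  (mem_vanish_iff 𝒜 i ε (SetLike.coe_mem _)).2 (hx d)

end Absolute

section Relative

variable {S P Z : Scheme.{u}} {𝒮 : RelProj.QCGrAlg S} {p : P ⟶ S}
  {chart : ∀ (U : S.Opens) (hU : IsAffineOpen U), (((p ⁻¹ᵁ U : P.Opens) : Scheme.{u}) ≅ Proj (𝒮.deg U hU))}

variable (chart) in
/-- The ideal of `Z` over an affine open. -/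
def I (i : Z ⟶ P) (U : S.Opens) (hU : IsAffineOpen U) : Ideal (𝒮.presheaf.obj (op U)) :=
  vanish (𝒮.deg U hU) i (RelProj.emb p chart U hU)

variable (i : Z ⟶ P) (hP : RelProj.IsRelProj 𝒮 p chart)

theorem map_frac {U W : S.Opens} (hU : IsAffineOpen U) (hW : IsAffineOpen W) (j : W ≤ U)
    {t : 𝒮.presheaf.obj (op U)} (ht : t ∈ 𝒮.deg U hU 1) {d : ℕ} {x : 𝒮.presheaf.obj (op U)}
    (hx : x ∈ 𝒮.deg U hU d) :
    Away.map (𝒮.res hU hW j) t (frac _ ht hx) =
      frac (𝒮.deg W hW) ((𝒮.res hU hW j).2 ht) ((𝒮.res hU hW j).2 hx) := by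
  unfold frac
  rw [Away.map_mk]
  rfl

include hP in
theorem chartAt_basic {U W : S.Opens} (hU : IsAffineOpen U) (hW : IsAffineOpen W) (j : W ≤ U)
    (hr : ∃ r : Γ(S, U), S.basicOpen r = W) {t : 𝒮.presheaf.obj (op U)} (ht : t ∈ 𝒮.deg U hU 1) :
    chartAt (𝒮.deg W hW) (RelProj.emb p chart W hW) ((𝒮.res hU hW j).2 ht) =
      Spec.map (CommRingCat.ofHom (Away.map (𝒮.res hU hW j) t)) ≫
        chartAt (𝒮.deg U hU) (RelProj.emb p chart U hU) ht := by
  obtain ⟨r, rfl⟩ := hr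
  show Proj.awayι _ _ _ _ ≫ _ = _
  rw [← RelProj.map_res_emb hP U hU r]
  exact Proj.awayι_comp_map_assoc _ _ one_pos t ht _

theorem isLocalization_away {U W : S.Opens} (hU : IsAffineOpen U) (hW : IsAffineOpen W) (j : W ≤ U)
    (r : Γ(S, U)) (hr : S.basicOpen r = W) {t : 𝒮.presheaf.obj (op U)} (ht : t ∈ 𝒮.deg U hU 1) :
    letI := (Away.map (𝒮.res hU hW j) t).toAlgebra
    IsLocalization.Away (fromZeroRingHom (𝒮.deg U hU) (Submonoid.powers t) ⟨(𝒮.str.app (op U)).hom r, 𝒮.str_mem U hU r⟩)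
      (Away (𝒮.deg W hW) (𝒮.res hU hW j t)) := by
  subst hr
  exact Groth.L18.RPLoc.isLocalization_away_map (𝒮.res hU hW j) _ (𝒮.str_mem U hU r) (𝒮.isQC U hU r) t ht

theorem fromZero_pow_mul {U : S.Opens} (hU : IsAffineOpen U) (r : Γ(S, U)) {t : 𝒮.presheaf.obj (op U)}
    (ht : t ∈ 𝒮.deg U hU 1) {d : ℕ} {x : 𝒮.presheaf.obj (op U)} (hx : x ∈ 𝒮.deg U hU d) (N : ℕ)
    (h : (𝒮.str.app (op U)).hom r ^ N * x ∈ 𝒮.deg U hU d) :
    fromZeroRingHom (𝒮.deg U hU) (Submonoid.powers t) ⟨(𝒮.str.app (op U)).hom r, 𝒮.str_mem U hU r⟩ ^ N *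
      frac _ ht hx = frac _ ht h := by
  apply val_injective
  simp [frac, fromZeroRingHom, val_mk, Away.val_mk, Localization.mk_pow, Localization.mk_mul]

include hP in
/-- Functions on a basic open vanishing on `Z`. -/
theorem exists_pow_frac_mem [IsAffineHom i] {U W : S.Opens} (hU : IsAffineOpen U) (hW : IsAffineOpen W) (j : W ≤ U)
    (r : Γ(S, U)) (hr : S.basicOpen r = W) {t : 𝒮.presheaf.obj (op U)} (ht : t ∈ 𝒮.deg U hU 1) {d : ℕ}
    {x : 𝒮.presheaf.obj (op U)} (hx : x ∈ 𝒮.deg U hU d)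
    (h : frac (𝒮.deg W hW) ((𝒮.res hU hW j).2 ht) ((𝒮.res hU hW j).2 hx) ∈
      K (𝒮.deg W hW) i (RelProj.emb p chart W hW) ((𝒮.res hU hW j).2 ht)) :
    ∃ N, fromZeroRingHom (𝒮.deg U hU) (Submonoid.powers t) ⟨(𝒮.str.app (op U)).hom r, 𝒮.str_mem U hU r⟩ ^ N *
      frac _ ht hx ∈ K (𝒮.deg U hU) i (RelProj.emb p chart U hU) ht := by
  refine PointKer.exists_pow_mul_mem (R' := CommRingCat.of (Away (𝒮.deg W hW) (𝒮.res hU hW j t)))
    (CommRingCat.ofHom (Away.map (𝒮.res hU hW j) t)) (chartAt_basic hP hU hW j ⟨r, hr⟩ ht) _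
    (isLocalization_away hU hW j r hr ht) ?_
  show Away.map (𝒮.res hU hW j) t (frac _ ht hx) ∈ _
  rwa [map_frac hU hW j ht hx]

/-- The degree-one part restricts to generators. -/
theorem span_deg_one {U V : S.Opens} (hU : IsAffineOpen U) (hV : IsAffineOpen V) (j : V ≤ U) :
    ∀ z ∈ 𝒮.deg V hV 1, z ∈ Ideal.span (𝒮.res hU hV j '' (𝒮.deg U hU 1 : Set (𝒮.presheaf.obj (op U)))) := by
  classical
  intro z hz
  set J := Ideal.span (𝒮.res hU hV j '' (𝒮.deg U hU 1 : Set (𝒮.presheaf.obj (op U))))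
  let L : Ideal Γ(S, V) := (J.colon {z}).comap (𝒮.str.app (op V)).hom
  suffices h : (1 : Γ(S, V)) ∈ L.radical by
    obtain ⟨n, hn⟩ := h
    rw [one_pow] at hn
    simpa [L, map_one] using Submodule.mem_colon_singleton.mp hn
  have htop : L.radical = ⊤ := by
    rw [eq_top_iff, ← (hV.iSup_basicOpen_eq_self_iff (s := {s | ∃ r : Γ(S, U), S.basicOpen s = S.basicOpen r})).1
      (le_antisymm (iSup_le fun s => S.basicOpen_le _) fun y hy => ?_), Ideal.span_le]
    · rintro s ⟨r, e⟩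
      let c : 𝒮.presheaf.obj (op V) := (𝒮.str.app (op V)).hom s
      letI := (𝒮.presheaf.map (homOfLE (S.basicOpen_le s)).op).hom.toAlgebra
      haveI : IsLocalization.Away c (𝒮.presheaf.obj (op (S.basicOpen s))) := 𝒮.isQC V hV s
      letI alg' := (𝒮.presheaf.map (homOfLE (e.trans_le (S.basicOpen_le r))).op).hom.toAlgebra
      haveI hl' : IsLocalization.Away ((𝒮.str.app (op U)).hom r) (𝒮.presheaf.obj (op (S.basicOpen s))) := by
        have key : ∀ {W : S.Opens} (eW : S.basicOpen r = W) (k : W ≤ U),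
            letI := (𝒮.presheaf.map (homOfLE k).op).hom.toAlgebra
            IsLocalization.Away ((𝒮.str.app (op U)).hom r) (𝒮.presheaf.obj (op W)) := by
          intro W eW k; subst eW; exact 𝒮.isQC U hU r
        exact key e.symm _
      have hk : S.basicOpen s ≤ U := (S.basicOpen_le s).trans j
      obtain ⟨⟨y, _, k, rfl⟩, hk'⟩ := @IsLocalization.surj _ _ _ _ _ alg' hl'
        ((𝒮.presheaf.map (homOfLE (S.basicOpen_le s)).op).hom z)
      let y₁ : 𝒮.presheaf.obj (op U) := (DirectSum.decompose (𝒮.deg U hU) y 1 : _)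
      have hzk : (𝒮.presheaf.map (homOfLE (S.basicOpen_le s)).op).hom z *
          (𝒮.presheaf.map (homOfLE hk).op).hom ((𝒮.str.app (op U)).hom r) ^ k ∈
            𝒮.deg (S.basicOpen s) (hV.basicOpen s) 1 := by
        simpa using SetLike.mul_mem_graded (A := 𝒮.deg (S.basicOpen s) (hV.basicOpen s))
          (𝒮.map_mem hV (hV.basicOpen s) (S.basicOpen_le s) hz)
          (SetLike.pow_mem_graded k (𝒮.map_mem hU (hV.basicOpen s) hk (𝒮.str_mem U hU r)))
      have hy : (𝒮.presheaf.map (homOfLE hk).op).hom y₁ = (𝒮.presheaf.map (homOfLE (S.basicOpen_le s)).op).hom z *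
          (𝒮.presheaf.map (homOfLE hk).op).hom ((𝒮.str.app (op U)).hom r) ^ k := by
        show 𝒮.res hU (hV.basicOpen s) hk y₁ = _
        rw [GradedRingHom.map_directSumDecompose]
        have h' : (𝒮.presheaf.map (homOfLE (S.basicOpen_le s)).op).hom z *
            (𝒮.presheaf.map (homOfLE hk).op).hom ((𝒮.str.app (op U)).hom r) ^ k =
              𝒮.res hU (hV.basicOpen s) hk y := by
          rw [← map_pow]; exact hk'
        rw [← h', DirectSum.decompose_of_mem_same _ hzk]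
      -- transfer back to `V`
      have hres : ∀ a : 𝒮.presheaf.obj (op U), (𝒮.presheaf.map (homOfLE hk).op).hom a =
          (𝒮.presheaf.map (homOfLE (S.basicOpen_le s)).op).hom ((𝒮.presheaf.map (homOfLE j).op).hom a) := fun a =>
        ConcreteCategory.congr_hom (𝒮.presheaf.map_comp (homOfLE j).op (homOfLE (S.basicOpen_le s)).op) a
      have hunit : IsUnit ((𝒮.presheaf.map (homOfLE hk).op).hom ((𝒮.str.app (op U)).hom r)) :=
        IsLocalization.Away.algebraMap_isUnit ((𝒮.str.app (op U)).hom r)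
      obtain ⟨v, hv⟩ := (hunit.pow k).exists_right_inv
      obtain ⟨⟨b, _, l, rfl⟩, hb⟩ := IsLocalization.surj (Submonoid.powers c) v
      have heq : (𝒮.presheaf.map (homOfLE (S.basicOpen_le s)).op).hom
            (b * (𝒮.presheaf.map (homOfLE j).op).hom y₁) =
          (𝒮.presheaf.map (homOfLE (S.basicOpen_le s)).op).hom (c ^ l * z) := by
        rw [map_mul, ← hres, hy, map_mul]
        have hb' : v * (𝒮.presheaf.map (homOfLE (S.basicOpen_le s)).op).hom (c ^ l) =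
            (𝒮.presheaf.map (homOfLE (S.basicOpen_le s)).op).hom b := hb
        rw [← hb']
        linear_combination ((𝒮.presheaf.map (homOfLE (S.basicOpen_le s)).op).hom (c ^ l) *
          (𝒮.presheaf.map (homOfLE (S.basicOpen_le s)).op).hom z) * hv
      obtain ⟨⟨_, m, rfl⟩, hm⟩ := (IsLocalization.eq_iff_exists (Submonoid.powers c) _).1 heq
      refine ⟨m + l, ?_⟩
      show (𝒮.str.app (op V)).hom (s ^ (m + l)) ∈ J.colon {z}
      rw [Submodule.mem_colon_singleton, smul_eq_mul, map_pow]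
      show c ^ (m + l) * z ∈ J
      rw [pow_add, mul_assoc, ← hm]
      exact Ideal.mul_mem_left _ _ (Ideal.mul_mem_left _ _
        (Ideal.subset_span ⟨y₁, SetLike.coe_mem _, rfl⟩))
    · obtain ⟨s, r, e, hys⟩ := exists_basicOpen_le_affine_inter hV hU y ⟨hy, j hy⟩
      exact Opens.mem_iSup.mpr ⟨⟨s, r, e⟩, hys⟩
  rw [htop]; trivial

include hP in
theorem cond_res_basic [IsAffineHom i] {U W : S.Opens} (hU : IsAffineOpen U) (hW : IsAffineOpen W) (j : W ≤ U)
    (hr : ∃ r : Γ(S, U), S.basicOpen r = W) {d : ℕ} {x : 𝒮.presheaf.obj (op U)} (hx : x ∈ 𝒮.deg U hU d)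
    (h : Cond (𝒮.deg U hU) i (RelProj.emb p chart U hU) d x) :
    Cond (𝒮.deg W hW) i (RelProj.emb p chart W hW) d (𝒮.res hU hW j x) := by
  refine cond_of_gens _ i _ (S := 𝒮.res hU hW j '' (𝒮.deg U hU 1 : Set _))
    (by rintro _ ⟨t, ht, rfl⟩; exact (𝒮.res hU hW j).2 ht) (span_deg_one hU hW j) ((𝒮.res hU hW j).2 hx) ?_
  rintro _ ⟨t, ht, rfl⟩
  have hm := PointKer.map_mem (R := CommRingCat.of (Away (𝒮.deg U hU) t))
    (R' := CommRingCat.of (Away (𝒮.deg W hW) (𝒮.res hU hW j t)))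
    (CommRingCat.ofHom (Away.map (𝒮.res hU hW j) t)) (chartAt_basic hP hU hW j hr ht) (h t ht hx)
  have hm' : Away.map (𝒮.res hU hW j) t (frac _ ht hx) ∈
      K (𝒮.deg W hW) i (RelProj.emb p chart W hW) ((𝒮.res hU hW j).2 ht) := hm
  rw [map_frac hU hW j ht hx] at hm'
  exact hm'

include hP in
theorem res_mem_I [IsAffineHom i] {U V : S.Opens} (hU : IsAffineOpen U) (hV : IsAffineOpen V) (j : V ≤ U)
    {x : 𝒮.presheaf.obj (op U)} (hx : x ∈ I chart i U hU) : 𝒮.res hU hV j x ∈ I chart i V hV := by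
  classical
  suffices h : ∀ d x (_ : x ∈ 𝒮.deg U hU d), Cond (𝒮.deg U hU) i (RelProj.emb p chart U hU) d x →
      Cond (𝒮.deg V hV) i (RelProj.emb p chart V hV) d (𝒮.res hU hV j x) by
    intro d
    rw [← GradedRingHom.map_directSumDecompose]
    exact h d _ (SetLike.coe_mem _) (hx d)
  intro d x hxd hc t' ht' hxV
  let J := {s : Γ(S, V) // ∃ r : Γ(S, U), S.basicOpen s = S.basicOpen r}
  refine PointKer.mem_of_local (fun s : J => fromZeroRingHom (𝒮.deg V hV) (Submonoid.powers t')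
    ⟨(𝒮.str.app (op V)).hom s.1, 𝒮.str_mem V hV s.1⟩) ?_ fun s => ?_
  · have hs : Ideal.span (Set.range fun s : J => s.1) = ⊤ := by
      rw [← hV.iSup_basicOpen_eq_self_iff]
      refine le_antisymm (iSup_le fun s => S.basicOpen_le _) fun y hy => ?_
      obtain ⟨s, r, e, hys⟩ := exists_basicOpen_le_affine_inter hV hU y ⟨hy, j hy⟩
      exact Opens.mem_iSup.mpr ⟨⟨s, ⟨⟨s, r, e⟩, rfl⟩⟩, hys⟩
    let φ : Γ(S, V) →+* Away (𝒮.deg V hV) t' :=
      (fromZeroRingHom (𝒮.deg V hV) (Submonoid.powers t')).comp (𝒮.strZero V hV).hom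
    have := congrArg (Ideal.map φ) hs
    rw [Ideal.map_span, Ideal.map_top, ← Set.range_comp] at this
    exact this
  · obtain ⟨s, r, e⟩ := s
    have hk : S.basicOpen s ≤ U := (S.basicOpen_le s).trans j
    have hcW := cond_res_basic i hP hU (hV.basicOpen s) hk ⟨r, e.symm⟩ hxd hc
    refine exists_pow_frac_mem i hP hV (hV.basicOpen s) (S.basicOpen_le s) s rfl ht' hxV ?_
    have he : 𝒮.res hV (hV.basicOpen s) (S.basicOpen_le s) (𝒮.res hU hV j x) = 𝒮.res hU (hV.basicOpen s) hk x :=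
      DFunLike.congr_fun (Groth.L18.RP.res_comp 𝒮 hU hV (hV.basicOpen s) j (S.basicOpen_le s)) x
    rw [frac_congr _ _ he _ ((𝒮.res hU (hV.basicOpen s) hk).2 hxd)]
    exact hcW _ _ _

include hP in
theorem exists_pow_mem_I [IsAffineHom i] (hft : 𝒮.IsFTDeg 1) {U : S.Opens} (hU : IsAffineOpen U) (r : Γ(S, U))
    {x : 𝒮.presheaf.obj (op U)}
    (h : 𝒮.res hU (hU.basicOpen r) (S.basicOpen_le r) x ∈ I chart i (S.basicOpen r) (hU.basicOpen r)) :
    ∃ N, (𝒮.str.app (op U)).hom r ^ N * x ∈ I chart i U hU := by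
  classical
  set c := (𝒮.str.app (op U)).hom r
  obtain ⟨T, hT, hT'⟩ := hft U hU
  have hcd : ∀ (N d : ℕ) (y : 𝒮.presheaf.obj (op U)), y ∈ 𝒮.deg U hU d → c ^ N * y ∈ 𝒮.deg U hU d := fun N d y hy => by
    simpa using SetLike.mul_mem_graded (SetLike.pow_mem_graded N (𝒮.str_mem U hU r)) hy
  have hhom : ∀ d y (hy : y ∈ 𝒮.deg U hU d),
      𝒮.res hU (hU.basicOpen r) (S.basicOpen_le r) y ∈ I chart i (S.basicOpen r) (hU.basicOpen r) →
      ∃ N, ∀ M, N ≤ M → c ^ M * y ∈ I chart i U hU := by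
    intro d y hy hmem
    have hcW := (mem_vanish_iff _ i _ ((𝒮.res hU (hU.basicOpen r) (S.basicOpen_le r)).2 hy)).1 hmem
    have hN : ∀ t : T, ∃ N, fromZeroRingHom (𝒮.deg U hU) (Submonoid.powers t.1)
        ⟨c, 𝒮.str_mem U hU r⟩ ^ N * frac _ (hT t.2) hy ∈ K (𝒮.deg U hU) i (RelProj.emb p chart U hU) (hT t.2) :=
      fun t => exists_pow_frac_mem i hP hU (hU.basicOpen r) (S.basicOpen_le r) r rfl (hT t.2) hy (hcW _ _ _)
    choose N hN using hN
    refine ⟨Finset.univ.sup N, fun M hM => (mem_vanish_iff _ i _ (hcd M d y hy)).2 ?_⟩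
    refine cond_of_gens _ i _ (S := (T : Set _)) hT (fun z hz => ?_) (hcd M d y hy) fun t ht => ?_
    · obtain ⟨e, rfl⟩ := hT' z hz
      exact Ideal.sum_mem _ fun t ht => Ideal.mul_mem_left _ _ (Ideal.subset_span ht)
    · have hle : N ⟨t, ht⟩ ≤ M := (Finset.le_sup (f := N) (Finset.mem_univ _)).trans hM
      rw [← fromZero_pow_mul hU r (hT ht) hy M (hcd M d y hy), ← Nat.sub_add_cancel hle, pow_add, mul_assoc]
      exact Ideal.mul_mem_left _ _ (hN ⟨t, ht⟩)
  have hcomp : ∀ d, ∃ N, ∀ M, N ≤ M → c ^ M * (DirectSum.decompose (𝒮.deg U hU) x d : _) ∈ I chart i U hU := by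
    intro d
    refine hhom d _ (SetLike.coe_mem _) ?_
    rw [GradedRingHom.map_directSumDecompose]
    exact decompose_mem_vanish _ i _ h d
  choose N hN using hcomp
  refine ⟨(DirectSum.decompose (𝒮.deg U hU) x).support.sup N, ?_⟩
  rw [show ∀ M, c ^ M * x = ∑ d ∈ (DirectSum.decompose (𝒮.deg U hU) x).support,
      c ^ M * (DirectSum.decompose (𝒮.deg U hU) x d : _) from fun M => by
    rw [← Finset.mul_sum, DirectSum.sum_support_decompose]]
  exact Ideal.sum_mem _ fun d hd => hN d _ (Finset.le_sup (f := N) hd)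

theorem mem_I_iff {U : S.Opens} (hU : IsAffineOpen U) {d : ℕ} {x : 𝒮.presheaf.obj (op U)} (hx : x ∈ 𝒮.deg U hU d) :
    x ∈ I chart i U hU ↔ Cond (𝒮.deg U hU) i (RelProj.emb p chart U hU) d x :=
  mem_vanish_iff _ _ _ hx

end Relative

end Groth.L18.VanishI
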